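import Cfsg.Agent.Mrg.Omega.ML.Ex.TwoOdd_m3
import Cfsg.Agent.Mrg.Omega.EH3.NodeHom
import Cfsg.Agent.Mrg.Omega.ML.ExLow.NumX_m3
import Cfsg.Agent.Mrg.Omega.NOThree.NoOver
import Cfsg.Agent.KFacts.TwF4.OutTwo
import Cfsg.Agent.KFacts.TwF4.Full
import Cfsg.Agent.Mrg.Omega.ML.MinIrr
import Cfsg.Agent.ZN.ChoiceBase
import Cfsg.Agent.MinSimple.Basic
import Cfsg.Agent.Mrg.Omega.OM.PG.NoRad_m3
import Cfsg.Agent.Mrg.Omega.VP
import Cfsg.Agent.Mrg.Omega.KL.Star.ViaRed_m3
import Cfsg.Agent.MinSimple.VModule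
import Cfsg.Agent.Lib.SylowNormalInf
import Cfsg.Agent.Omega.NoFF.Basic
import Cfsg.Agent.Omega.NO3S.PointTI_m3
import Cfsg.Agent.Mrg.Omega.NOThreeL.RTwo_m3
import Cfsg.Agent.Mrg.Omega.NOThreeL.RA.End_mg_m3
import Cfsg.Agent.Mrg.Omega.SQT.Rank
import Cfsg.Agent.FastGrp
import Cfsg.Agent.Prune
set_option linter.all false

section
prune_inst 0x7ff0fefb8ff8addfffff7e7fa7fccffdf9f8bffff6dff9cbffe4ebff8bff4b0eabe5fbaf8fead2fe0ef6e21c10b87813fdffcf3fe26bdc7ffffd5ff45ffbee1fa5e7bd0d71d6bc3e0fbc6fffe3f0778e7f3fffffffffffffffffffffffffffbeffbfffffffff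

-- part: Omega/EH3/CoTwo/Div
section
set_option linter.all false
open scoped Cfsg.Agent.FastGrp

/-!
# EH3, row `Co₂`, the device: `T` does not vanish on a subgroup of index `2` of `X` (helper665)
-/

set_option autoImplicit false
set_option linter.unusedSectionVars false
set_option linter.unusedVariables false

namespace Cfsg.Agent.Omega.EH3.CoTwo

open Subgroup Cfsg.Agent.Omega.EH3

section Grp

variable {H : Type*} [Group H]

theorem card_mul_relIndex' {K X : Subgroup H} (h : K ≤ X) :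
    Nat.card K * K.relIndex X = Nat.card X := by
  have := relIndex_mul_relIndex ⊥ K X bot_le h
  rwa [relIndex_bot_left, relIndex_bot_left] at this

theorem mul_mem_of_two {X K : Subgroup H} (h : K.relIndex X = 2) {u v : H} (hu : u ∈ X)
    (hv : v ∈ X) (hu' : u ∉ K) (hv' : v ∉ K) : u * v ∈ K := by
  have h1 := Subgroup.mul_mem_iff_of_index_two (H := K.subgroupOf X) h (a := ⟨u, hu⟩)
    (b := ⟨v, hv⟩)
  rw [mem_subgroupOf, mem_subgroupOf, mem_subgroupOf] at h1
  exact h1.2 ⟨fun h2 => absurd h2 hu', fun h2 => absurd h2 hv'⟩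

theorem card_le_two_inf {X K M : Subgroup H} (h : K.relIndex X = 2) (hM : M ≤ X) :
    Nat.card M ≤ 2 * Nat.card (M ⊓ K : Subgroup H) := by
  have h1 := card_mul_relIndex' (inf_le_left : M ⊓ K ≤ M)
  rw [inf_relIndex_left] at h1
  have h2 : K.relIndex M ≤ K.relIndex X := relIndex_le_of_le_right hM (by rw [h]; norm_num)
  rw [h] at h2
  rw [← h1, mul_comm]
  exact Nat.mul_le_mul_right _ h2

theorem le_normalizer_of {N Y : Subgroup H} (h : ∀ g ∈ N, ∀ y ∈ Y, g * y * g⁻¹ ∈ Y) :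
    N ≤ normalizer (Y : Set H) := by
  intro g hg
  rw [mem_normalizer_iff]
  intro y
  constructor
  · exact fun hy => h g hg y hy
  · intro hy
    have h1 := h g⁻¹ (inv_mem hg) _ hy
    have h2 : g⁻¹ * (g * y * g⁻¹) * g⁻¹⁻¹ = y := by group
    rwa [h2] at h1

theorem lin_ext {A B : Subgroup H} {e : H} (he : e ∈ A) (hB : B ≤ A)
    (hAB : ∀ u ∈ A, u ∈ B ∨ e * u ∈ B) (f : H → ZMod 2)
    (hf : ∀ u ∈ A, ∀ v ∈ A, f (u * v) = f u + f v) (h1 : ∀ u ∈ B, f u = 0) (h2 : f e = 0) :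
    ∀ u ∈ A, f u = 0 := by
  intro u hu
  rcases hAB u hu with h | h
  · exact h1 u h
  · have h3 := hf e he u hu
    rw [h1 _ h, h2, zero_add] at h3
    exact h3.symm

theorem bil_ext {A B : Subgroup H} {e : H} (he : e ∈ A) (hB : B ≤ A)
    (hAB : ∀ u ∈ A, u ∈ B ∨ e * u ∈ B) (f : H → H → ZMod 2)
    (hf1 : ∀ u ∈ A, ∀ u' ∈ A, ∀ v ∈ A, f (u * u') v = f u v + f u' v)
    (hf2 : ∀ u ∈ A, ∀ v ∈ A, ∀ v' ∈ A, f u (v * v') = f u v + f u v')
    (h1 : ∀ u ∈ B, ∀ v ∈ B, f u v = 0) (h2 : ∀ v ∈ B, f e v = 0) (h3 : ∀ u ∈ B, f u e = 0)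
    (h4 : f e e = 0) : ∀ u ∈ A, ∀ v ∈ A, f u v = 0 := by
  intro u hu v hv
  refine lin_ext he hB hAB (fun u => f u v) (fun u hu u' hu' => hf1 u hu u' hu' v hv) ?_ ?_ u hu
  · intro u hu
    exact lin_ext he hB hAB (fun v => f u v) (hf2 u (hB hu)) (h1 u hu) (h3 u hu) v hv
  · exact lin_ext he hB hAB (fun v => f e v) (hf2 e he) h2 h4 v hv

end Grp

variable {H V : Type*} [Group H] [AddCommGroup V] [Module (ZMod 2) V]
  {ρ : H →* (V ≃ₗ[ZMod 2] V)} {b : LinearMap.BilinForm (ZMod 2) V} {q : V → ZMod 2}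
  {a : V} {D : Submodule (ZMod 2) V} {X : Subgroup H} {w : ℕ}

/-- `T` is invariant under the stabiliser of `a`. -/
theorem TT_conj (C : Cfg ρ b q a D X w) {c : V} (hc : b a c = 1) {h : H} (hh : ρ h a = a)
    {x y t : H} (hx : x ∈ X) (hy : y ∈ X) (ht : t ∈ X) :
    TT ρ b c (h * x * h⁻¹) (h * y * h⁻¹) (h * t * h⁻¹) = TT ρ b c x y t := by
  have h1 : b a (ρ h c) = 1 := by rw [C.b_a_ρ hh, hc]
  rw [← b_indep C hc h1 h1 (C.X_norm h hh x hx) (C.X_norm h hh y hy) (C.X_norm h hh t ht),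
    cm_conj C, cm_conj C, cm_conj C, C.b_inv]
  rfl

theorem tri_ext (C : Cfg ρ b q a D X w) {c : V} {K : Subgroup H} {e : H} (he : e ∈ X)
    (hK : K ≤ X) (hKe : ∀ u ∈ X, u ∈ K ∨ e * u ∈ K)
    (h1 : ∀ x ∈ K, ∀ y ∈ K, ∀ t ∈ K, TT ρ b c x y t = 0)
    (h2 : ∀ y ∈ K, ∀ t ∈ K, TT ρ b c e y t = 0) :
    ∀ x ∈ X, ∀ y ∈ X, ∀ t ∈ X, TT ρ b c x y t = 0 := by
  intro x hx y hy t ht
  refine lin_ext he hK hKe (fun x => TT ρ b c x y t)
    (fun u hu v hv => TT_mul1 C hu hv hy ht) ?_ ?_ x hx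
  · intro u hu
    refine bil_ext he hK hKe (fun y t => TT ρ b c u y t)
      (fun v hv v' hv' t ht => TT_mul2 C (hK hu) hv hv' ht)
      (fun v hv t ht t' ht' => TT_mul3 C (hK hu) hv ht ht') (h1 u hu) ?_ ?_ ?_ y hy t ht
    · intro v hv
      show TT ρ b c u e v = 0
      rw [TT_comm12 C (hK hu) he]
      exact h2 u hu v hv
    · intro v hv
      show TT ρ b c u v e = 0
      rw [TT_comm13 C (hK hu) (hK hv) he]
      exact h2 v hv u hu
    · exact TT_self23 C (hK hu) he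
  · refine bil_ext he hK hKe (fun y t => TT ρ b c e y t)
      (fun v hv v' hv' t ht => TT_mul2 C he hv hv' ht)
      (fun v hv t ht t' ht' => TT_mul3 C he hv ht ht') h2 ?_ ?_ ?_ y hy t ht
    · intro v hv
      exact TT_self12 C he
    · intro v hv
      exact TT_self13 C he (hK hv)
    · exact TT_self12 C he

/-- **(DIV)** `T` does not vanish on a subgroup of index `2` of `X`. -/
theorem exists_TT_ne (C : Cfg ρ b q a D X w) (hcard : Nat.card X = 2 ^ 10)
    (irr : ∀ Y : Subgroup H, Y ≤ X → Y ≠ ⊥ →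
      normalizer (X : Set H) ≤ normalizer (Y : Set H) → Y = X)
    {c : V} (hc : b a c = 1) {K : Subgroup H} (hK : K ≤ X) (hKc : Nat.card K = 2 ^ 9) :
    ∃ x ∈ K, ∃ y ∈ K, ∃ t ∈ K, TT ρ b c x y t ≠ 0 := by
  by_contra hcon
  push Not at hcon
  have hfin := C.finite_H
  -- the family
  let S : Set (Subgroup H) := {K | K ≤ X ∧ Nat.card K = 2 ^ 9 ∧
    ∀ x ∈ K, ∀ y ∈ K, ∀ t ∈ K, TT ρ b c x y t = 0}
  have hKS : K ∈ S := ⟨hK, hKc, hcon⟩
  have hidx : ∀ M ∈ S, M.relIndex X = 2 := by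
    intro M hM
    have h1 := card_mul_relIndex' hM.1
    rw [hM.2.1, hcard] at h1
    have h2 : 2 ^ 9 * M.relIndex X = 2 ^ 9 * 2 := by rw [h1]; norm_num
    exact Nat.eq_of_mul_eq_mul_left (by norm_num) h2
  -- the family is invariant
  have hconj : ∀ g, ρ g a = a → ∀ M ∈ S, M.map (MulAut.conj g⁻¹).toMonoidHom ∈ S := by
    intro g hg M hM
    have hg' : ρ g⁻¹ a = a := C.fix_inv hg
    refine ⟨?_, ?_, ?_⟩
    · rintro _ ⟨m, hm, rfl⟩
      exact C.X_norm g⁻¹ hg' m (hM.1 hm)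
    · rw [← hM.2.1]
      exact Nat.card_congr (M.equivMapOfInjective _ (MulAut.conj g⁻¹).injective).symm.toEquiv
    · rintro _ ⟨x, hx, rfl⟩ _ ⟨y, hy, rfl⟩ _ ⟨t, ht, rfl⟩
      have := TT_conj C hc hg' (hM.1 hx) (hM.1 hy) (hM.1 ht)
      rw [hM.2.2 x hx y hy t ht] at this
      exact this
  -- the intersection is trivial
  have hY : X ⊓ sInf S = ⊥ := by
    by_contra hne
    have h1 := irr (X ⊓ sInf S) inf_le_left hne (le_normalizer_of fun g hg y hy => by
      rw [mem_N_iff C] at hg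
      refine mem_inf.2 ⟨C.X_norm g hg y (mem_inf.1 hy).1, ?_⟩
      rw [mem_sInf]
      intro M hM
      have h2 := mem_sInf.1 (mem_inf.1 hy).2 _ (hconj g hg M hM)
      obtain ⟨m, hm, hmy⟩ := h2
      have h3 : g⁻¹ * m * g⁻¹⁻¹ = y := hmy
      rw [← h3]
      have h4 : g * (g⁻¹ * m * g⁻¹⁻¹) * g⁻¹ = m := by group
      rw [h4]
      exact hm)
    have h2 : X ≤ K := by
      rw [← h1]
      exact inf_le_right.trans (sInf_le hKS)
    have h3 := Subgroup.card_le_of_le h2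
    rw [hcard, hKc] at h3
    norm_num at h3
  have hex : ∀ M : Subgroup H, M ≤ X → 1 < Nat.card M → ∃ L ∈ S, ∃ e ∈ M, e ∉ L := by
    intro M hM hM1
    by_contra hcon2
    push Not at hcon2
    have h1 : M ≤ X ⊓ sInf S :=
      le_inf hM (fun e he => mem_sInf.2 fun L hL => hcon2 L hL e he)
    rw [hY, le_bot_iff] at h1
    rw [h1, Subgroup.card_bot] at hM1
    exact lt_irrefl _ hM1
  have hX1 : ∃ e ∈ X, e ∉ K := by
    by_contra hcon2
    push Not at hcon2
    have h3 := Subgroup.card_le_of_le (H := X) (K := K) hcon2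
    rw [hcard, hKc] at h3
    norm_num at h3
  obtain ⟨K2, hK2, f2, hf2, hf2'⟩ := hex K hK (by rw [hKc]; norm_num)
  have hc2 := card_le_two_inf (hidx K2 hK2) hK
  rw [hKc] at hc2
  obtain ⟨K3, hK3, f3, hf3, hf3'⟩ := hex (K ⊓ K2) (inf_le_left.trans hK) (by omega)
  have hc3 := card_le_two_inf (hidx K3 hK3) (inf_le_left.trans hK : K ⊓ K2 ≤ X)
  obtain ⟨K4, hK4, e4, he4, he4'⟩ := hex (K ⊓ K2 ⊓ K3) (inf_le_left.trans (inf_le_left.trans hK))
    (by omega)
  obtain ⟨f1, hf1, hf1'⟩ := hX1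
  obtain ⟨⟨h41, h42⟩, h43⟩ : (e4 ∈ K ∧ e4 ∈ K2) ∧ e4 ∈ K3 := by
    rw [mem_inf, mem_inf] at he4
    exact he4
  have mulout : ∀ M ∈ S, ∀ u ∈ X, ∀ v ∈ X, u ∉ M → v ∉ M → u * v ∈ M :=
    fun M hM u hu v hv hu' hv' => mul_mem_of_two (hidx M hM) hu hv hu' hv'
  -- the adjustment
  have adj : ∀ M ∈ S, ∀ e ∈ X, e ∉ M → ∀ u ∈ X, u ∈ M ∨ u * e ∈ M := by
    intro M hM e he he' u hu
    by_cases h : u ∈ M
    · exact Or.inl h
    · exact Or.inr (mulout M hM u hu e he h he')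
  obtain ⟨e3, h3X, h31, h32, h33, h34⟩ : ∃ e3 ∈ X, e3 ∈ K ∧ e3 ∈ K2 ∧ e3 ∉ K3 ∧ e3 ∈ K4 := by
    have g1 : f3 ∈ K ∧ f3 ∈ K2 := mem_inf.1 hf3
    rcases adj K4 hK4 e4 (hK h41) he4' f3 (hK g1.1) with h | h
    · exact ⟨f3, hK g1.1, g1.1, g1.2, hf3', h⟩
    · exact ⟨f3 * e4, hK (K.mul_mem g1.1 h41), K.mul_mem g1.1 h41, K2.mul_mem g1.2 h42,
        fun h5 => hf3' ((K3.mul_mem_cancel_right h43).1 h5), h⟩
  obtain ⟨e2, h2X, h21, h22, h23, h24⟩ : ∃ e2 ∈ X, e2 ∈ K ∧ e2 ∉ K2 ∧ e2 ∈ K3 ∧ e2 ∈ K4 := by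
    obtain ⟨g, gX, g1, g2, g3⟩ : ∃ g ∈ X, g ∈ K ∧ g ∉ K2 ∧ g ∈ K3 := by
      rcases adj K3 hK3 e3 h3X h33 f2 (hK hf2) with h | h
      · exact ⟨f2, hK hf2, hf2, hf2', h⟩
      · exact ⟨f2 * e3, hK (K.mul_mem hf2 h31), K.mul_mem hf2 h31,
          fun h5 => hf2' ((K2.mul_mem_cancel_right h32).1 h5), h⟩
    rcases adj K4 hK4 e4 (hK h41) he4' g gX with h | h
    · exact ⟨g, gX, g1, g2, g3, h⟩
    · exact ⟨g * e4, hK (K.mul_mem g1 h41), K.mul_mem g1 h41,
        fun h5 => g2 ((K2.mul_mem_cancel_right h42).1 h5), K3.mul_mem g3 h43, h⟩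
  obtain ⟨e1, h1X, h11, h12, h13, h14⟩ : ∃ e1 ∈ X, e1 ∉ K ∧ e1 ∈ K2 ∧ e1 ∈ K3 ∧ e1 ∈ K4 := by
    obtain ⟨g, gX, g1, g2⟩ : ∃ g ∈ X, g ∉ K ∧ g ∈ K2 := by
      rcases adj K2 hK2 e2 h2X h22 f1 hf1 with h | h
      · exact ⟨f1, hf1, hf1', h⟩
      · exact ⟨f1 * e2, X.mul_mem hf1 h2X, fun h5 => hf1' ((K.mul_mem_cancel_right h21).1 h5), h⟩
    obtain ⟨g', gX', g1', g2', g3'⟩ : ∃ g ∈ X, g ∉ K ∧ g ∈ K2 ∧ g ∈ K3 := by
      rcases adj K3 hK3 e3 h3X h33 g gX with h | h
      · exact ⟨g, gX, g1, g2, h⟩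
      · exact ⟨g * e3, X.mul_mem gX h3X, fun h5 => g1 ((K.mul_mem_cancel_right h31).1 h5),
          K2.mul_mem g2 h32, h⟩
    rcases adj K4 hK4 e4 (hK h41) he4' g' gX' with h | h
    · exact ⟨g', gX', g1', g2', g3', h⟩
    · exact ⟨g' * e4, X.mul_mem gX' (hK h41), fun h5 => g1' ((K.mul_mem_cancel_right h41).1 h5),
        K2.mul_mem g2' h42, K3.mul_mem g3' h43, h⟩
  -- the computation
  have split : ∀ M ∈ S, ∀ e ∈ X, e ∉ M → ∀ u ∈ X, u ∈ M ∨ e * u ∈ M := by
    intro M hM e he he' u hu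
    by_cases h : u ∈ M
    · exact Or.inl h
    · exact Or.inr (mulout M hM e he u hu he' h)
  have hT : ∀ x ∈ X, ∀ y ∈ X, ∀ t ∈ X, TT ρ b c x y t = 0 := by
    refine tri_ext C h1X hK (split K hKS e1 h1X h11) hcon ?_
    refine bil_ext (A := K) (B := K ⊓ K2) h21 inf_le_left ?_ (fun y t => TT ρ b c e1 y t)
      (fun v hv v' hv' t ht => TT_mul2 C h1X (hK hv) (hK hv') (hK ht))
      (fun v hv t ht t' ht' => TT_mul3 C h1X (hK hv) (hK ht) (hK ht')) ?_ ?_ ?_ ?_
    · intro u hu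
      rcases split K2 hK2 e2 h2X h22 u (hK hu) with h | h
      · exact Or.inl (mem_inf.2 ⟨hu, h⟩)
      · exact Or.inr (mem_inf.2 ⟨K.mul_mem h21 hu, h⟩)
    · intro u hu v hv
      exact hK2.2.2 e1 h12 u (mem_inf.1 hu).2 v (mem_inf.1 hv).2
    · have h5 : ∀ v ∈ K ⊓ K2, TT ρ b c e1 e2 v = 0 := by
        refine lin_ext (A := K ⊓ K2) (B := K ⊓ K2 ⊓ K3) (e := e3) (mem_inf.2 ⟨h31, h32⟩)
          inf_le_left ?_ (fun t => TT ρ b c e1 e2 t) ?_ ?_ ?_
        · intro u hu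
          rcases split K3 hK3 e3 h3X h33 u (hK (mem_inf.1 hu).1) with h | h
          · exact Or.inl (mem_inf.2 ⟨hu, h⟩)
          · exact Or.inr (mem_inf.2 ⟨(K ⊓ K2).mul_mem (mem_inf.2 ⟨h31, h32⟩) hu, h⟩)
        · intro u hu v hv
          exact TT_mul3 C h1X h2X (hK (mem_inf.1 hu).1) (hK (mem_inf.1 hv).1)
        · intro u hu
          exact hK3.2.2 e1 h13 e2 h23 u (mem_inf.1 hu).2
        · exact hK4.2.2 e1 h14 e2 h24 e3 h34
      exact h5
    · intro v hv
      show TT ρ b c e1 v e2 = 0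
      rw [TT_comm23 C h1X (hK (mem_inf.1 hv).1) h2X]
      have h5 : ∀ v ∈ K ⊓ K2, TT ρ b c e1 e2 v = 0 := by
        refine lin_ext (A := K ⊓ K2) (B := K ⊓ K2 ⊓ K3) (e := e3) (mem_inf.2 ⟨h31, h32⟩)
          inf_le_left ?_ (fun t => TT ρ b c e1 e2 t) ?_ ?_ ?_
        · intro u hu
          rcases split K3 hK3 e3 h3X h33 u (hK (mem_inf.1 hu).1) with h | h
          · exact Or.inl (mem_inf.2 ⟨hu, h⟩)
          · exact Or.inr (mem_inf.2 ⟨(K ⊓ K2).mul_mem (mem_inf.2 ⟨h31, h32⟩) hu, h⟩)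
        · intro u hu v hv
          exact TT_mul3 C h1X h2X (hK (mem_inf.1 hu).1) (hK (mem_inf.1 hv).1)
        · intro u hu
          exact hK3.2.2 e1 h13 e2 h23 u (mem_inf.1 hu).2
        · exact hK4.2.2 e1 h14 e2 h24 e3 h34
      exact h5 v hv
    · exact TT_self23 C h1X h2X
  have hX : ∀ y ∈ X, y = 1 := fun y hy => eq_one_of_TT C hc hy (hT y hy)
  have : X = ⊥ := (Subgroup.eq_bot_iff_forall X).2 hX
  rw [this, Subgroup.card_bot] at hcard
  norm_num at hcard

end Cfsg.Agent.Omega.EH3.CoTwo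
end

-- part: Omega/EH3/CoTwo/Vec
section
set_option linter.all false
open scoped Cfsg.Agent.FastGrp

/-!
# EH3, row `Co₂`, (1): the vector `x̃ ∈ D` with `C_X(x̃) = Ξ`, and `C_V(Ξ) = {0, a, x̃, x̃ + a}` (helper665)
-/

set_option autoImplicit false
set_option linter.unusedSectionVars false
set_option linter.unusedVariables false

namespace Cfsg.Agent.Omega.EH3.CoTwo

open Subgroup Cfsg.Agent.Omega.EH3

variable {H V : Type*} [Group H] [AddCommGroup V] [Module (ZMod 2) V]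
  {ρ : H →* (V ≃ₗ[ZMod 2] V)} {b : LinearMap.BilinForm (ZMod 2) V} {q : V → ZMod 2}
  {a : V} {D : Submodule (ZMod 2) V} {X : Subgroup H} {w : ℕ} {Xi Xf P : Subgroup H}

theorem sigma_inj (C : Cfg ρ b q a D X w) {c : V} (hc : b a c = 1) {x y : H} (hx : x ∈ X)
    (hy : y ∈ X) {d e : V} (hd : d ∈ D) (he : e ∈ D) (h1 : cm ρ x c + d = cm ρ y c + e) :
    x = y ∧ d = e := by
  have h2 : cm ρ (x * y) c ∈ D := by
    rw [cm_mul C]
    refine D.add_mem ?_ (cm_P C hx (cm_perp C hy c))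
    have h3 : cm ρ x c + cm ρ y c = d + e := by
      have h4 : cm ρ x c + cm ρ y c = (cm ρ x c + d) + d + cm ρ y c := by
        rw [C.add_add_self]
      rw [h4, h1]
      have h5 : cm ρ y c + e + d + cm ρ y c = d + e + (cm ρ y c + cm ρ y c) := by abel
      rw [h5, C.add_self, add_zero]
    rw [h3]
    exact D.add_mem hd he
  have h3 := C.X_semi _ (X.mul_mem hx hy) c hc h2
  have h4 : x = y := by
    rw [← C.X_inv hy]
    exact eq_inv_of_mul_eq_one_left h3
  subst h4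
  exact ⟨rfl, add_left_cancel h1⟩

/-- the annihilator in `D` of a subgroup of `X`. -/
theorem card_ann (C : Cfg ρ b q a D X w) {Y : Subgroup H} (hY : Y ≤ X) {k : ℕ}
    (hk : Nat.card Y = 2 ^ k) :
    ∃ A : Submodule (ZMod 2) V, (∀ v, v ∈ A ↔ v ∈ D ∧ ∀ y ∈ Y, ρ y v = v) ∧
      Nat.card A = 2 ^ (w - k) := by
  have hfin := C.finite_V
  obtain ⟨c, hc⟩ := C.exists_off
  have hc1 : cm ρ (1 : H) c = 0 := by
    rw [cm_eq_zero_iff C]; exact C.ρ_one c
  let M : Submodule (ZMod 2) V :=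
    { carrier := {v | ∃ y ∈ Y, v + cm ρ y c ∈ D}
      zero_mem' := ⟨1, Y.one_mem, by rw [hc1, add_zero]; exact D.zero_mem⟩
      add_mem' := by
        rintro u v ⟨x, hx, hu⟩ ⟨y, hy, hv⟩
        refine ⟨x * y, Y.mul_mem hx hy, ?_⟩
        rw [cm_mul C]
        have h1 : u + v + (cm ρ x c + cm ρ y c + cm ρ x (cm ρ y c)) =
          (u + cm ρ x c) + (v + cm ρ y c) + cm ρ x (cm ρ y c) := by abel
        rw [h1]
        exact D.add_mem (D.add_mem hu hv) (cm_P C (hY hx) (cm_perp C (hY hy) c))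
      smul_mem' := by
        rintro r v ⟨y, hy, hv⟩
        rcases zmod_two r with h | h
        · rw [h, zero_smul]
          exact ⟨1, Y.one_mem, by rw [hc1, add_zero]; exact D.zero_mem⟩
        · rw [h, one_smul]
          exact ⟨y, hy, hv⟩ }
  have hM : ∀ v, v ∈ M ↔ ∃ y ∈ Y, v + cm ρ y c ∈ D := fun v => Iff.rfl
  have hcardM : Nat.card M = 2 ^ (k + w) := by
    let f : Y × D → M := fun p => ⟨cm ρ (p.1 : H) c + p.2, (hM _).2 ⟨p.1, p.1.2, by
      rw [add_comm (cm ρ (p.1 : H) c) (p.2 : V), C.add_add_self]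
      exact p.2.2⟩⟩
    have hf : Function.Bijective f := by
      constructor
      · rintro ⟨x, d⟩ ⟨y, e⟩ h
        have h1 : cm ρ (x : H) c + (d : V) = cm ρ (y : H) c + e := congrArg Subtype.val h
        obtain ⟨h2, h3⟩ := sigma_inj C hc (hY x.2) (hY y.2) d.2 e.2 h1
        rw [Subtype.ext h2, Subtype.ext h3]
      · rintro ⟨v, hv⟩
        obtain ⟨y, hy, hyv⟩ := (hM v).1 hv
        refine ⟨(⟨y, hy⟩, ⟨v + cm ρ y c, hyv⟩), ?_⟩
        apply Subtype.ext
        show cm ρ y c + (v + cm ρ y c) = v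
        rw [add_comm, C.add_add_self]
    rw [← Nat.card_congr (Equiv.ofBijective f hf), Nat.card_prod, hk, C.card_D, ← pow_add]
  have hfrM : Module.finrank (ZMod 2) M = k + w := by
    have h1 := Module.natCard_eq_pow_finrank (K := ZMod 2) (V := M)
    rw [hcardM, Nat.card_zmod] at h1
    exact (Nat.pow_right_injective le_rfl h1).symm
  refine ⟨b.orthogonal M, ?_, ?_⟩
  · intro v
    rw [LinearMap.BilinForm.mem_orthogonal_iff]
    constructor
    · intro h
      have hvD : v ∈ D := perp_D C fun d hd => h d ((hM d).2 ⟨1, Y.one_mem, by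
        rw [hc1, add_zero]; exact hd⟩)
      refine ⟨hvD, fun y hy => ?_⟩
      have h1 : b (cm ρ y c) v = 0 := h _ ((hM _).2 ⟨y, hy, by
        rw [C.add_self]; exact D.zero_mem⟩)
      rw [C.b_comm] at h1
      rcases cm_D C (hY hy) hvD with h2 | h2
      · exact (cm_eq_zero_iff C).1 h2
      · rw [(b_functional C hc (hY hy)).1 h2] at h1
        exact absurd h1 one_ne_zero
    · rintro ⟨hvD, hv⟩ m hm
      obtain ⟨y, hy, hmy⟩ := (hM m).1 hm
      have e1 : m = (m + cm ρ y c) + cm ρ y c := by rw [C.add_add_self]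
      show b m v = 0
      rw [e1, map_add, LinearMap.add_apply, C.b_D hmy hvD, zero_add, C.b_comm]
      exact (b_functional C hc (hY hy)).2 ((cm_eq_zero_iff C).2 (hv y hy))
  · have h1 := LinearMap.BilinForm.finrank_orthogonal (nondeg C) M
    rw [hfrM, finrank_V C] at h1
    have h2 := Module.natCard_eq_pow_finrank (K := ZMod 2) (V := b.orthogonal M)
    rw [Nat.card_zmod, h1] at h2
    rw [h2]
    congr 1
    omega

theorem w_eq (C : Cfg ρ b q a D X w) (F : CoFacts X Xi Xf P) : w = 11 := by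
  have h1 := C.card_X
  rw [F.card] at h1
  have h2 := Nat.pow_right_injective le_rfl h1
  have h3 := C.five
  omega

theorem Xi_index (F : CoFacts X Xi Xf P) : Xi.relIndex X = 2 := by
  have h1 := card_mul_relIndex' F.pi_le
  rw [F.pi_card, F.card] at h1
  have h2 : 2 ^ 9 * Xi.relIndex X = 2 ^ 9 * 2 := by rw [h1]; norm_num
  exact Nat.eq_of_mul_eq_mul_left (by norm_num) h2

/-- `x̃`: the vectors of `D` with `C_X(x̃) = Ξ`. -/
structure Pt (ρ : H →* (V ≃ₗ[ZMod 2] V)) (a : V) (D : Submodule (ZMod 2) V) (X Xi : Subgroup H)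
    (x : V) : Prop where
  mem : x ∈ D
  ne0 : x ≠ 0
  nea : x ≠ a
  fix : ∀ y ∈ X, y ∈ Xi ↔ ρ y x = x

theorem Pt.add_a (C : Cfg ρ b q a D X w) {x : V} (hx : Pt ρ a D X Xi x) :
    Pt ρ a D X Xi (x + a) where
  mem := D.add_mem hx.mem C.a_mem
  ne0 := fun h => hx.nea (C.add_eq_zero.1 h)
  nea := fun h => hx.ne0 (by
    have := congrArg (· + a) h
    simp only [C.add_add_self, C.add_self] at this
    exact this)
  fix := by
    intro y hy
    rw [hx.fix y hy, map_add, C.X_a hy]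
    exact ⟨fun h => by rw [h], fun h => add_right_cancel h⟩

section

variable (C : Cfg ρ b q a D X w) (F : CoFacts X Xi Xf P)

include C F in
theorem exists_point : ∃ x, Pt ρ a D X Xi x := by
  have hfin := C.finite_V
  obtain ⟨A, hA, hAc⟩ := card_ann C F.pi_le F.pi_card
  rw [w_eq C F] at hAc
  have h1 : ¬ (A : Set V) ⊆ {0, a} := by
    intro h
    have h2 := Set.ncard_le_ncard h (Set.toFinite _)
    have h3 : (A : Set V).ncard = 4 := by
      rw [← Nat.card_coe_set_eq]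
      exact hAc.trans (by norm_num)
    have h4 : ({0, a} : Set V).ncard ≤ 1 + 1 := by
      have := Set.ncard_insert_le (0 : V) {a}
      rwa [Set.ncard_singleton] at this
    omega
  rw [Set.not_subset] at h1
  obtain ⟨x, hx, hx'⟩ := h1
  simp only [Set.mem_insert_iff, Set.mem_singleton_iff, not_or] at hx'
  obtain ⟨hxD, hxX⟩ := (hA x).1 hx
  refine ⟨x, hxD, hx'.1, hx'.2, fun y hy => ⟨fun h => hxX y h, fun h => ?_⟩⟩
  by_contra hyXi
  have h5 : ∀ u ∈ X, ρ u x = x := by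
    intro u hu
    by_cases hu' : u ∈ Xi
    · exact hxX u hu'
    · have h6 := hxX _ (mul_mem_of_two (Xi_index F) hy hu hyXi hu')
      rw [C.ρ_mul] at h6
      have h7 : ρ y (ρ u x) = ρ y x := by rw [h6, h]
      exact C.ρ_inj y h7
  rcases fix_X C h5 with h6 | h6
  · exact hx'.1 h6
  · exact hx'.2 h6

include C F in
/-- `C_D(Ξ) = {0, a, x̃, x̃ + a}`. -/
theorem ann_Xi {x : V} (hx : Pt ρ a D X Xi x) {d : V} (hd : d ∈ D) (h : ∀ y ∈ Xi, ρ y d = d) :
    d = 0 ∨ d = a ∨ d = x ∨ d = x + a := by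
  by_cases h0 : d = 0
  · exact Or.inl h0
  by_cases ha : d = a
  · exact Or.inr (Or.inl ha)
  have hsX : ∃ s ∈ X, s ∉ Xi := by
    by_contra hcon
    push Not at hcon
    have h3 := @Subgroup.card_le_of_le H _ X Xi (@Finite.of_injective _ _ C.finite_H _ Subtype.val_injective) hcon
    rw [F.card, F.pi_card] at h3
    norm_num at h3
  obtain ⟨s, hs, hs'⟩ := hsX
  have h1 : ρ s x = x + a :=
    (C.X_D s hs x hx.mem).resolve_left fun h2 => hs' ((hx.fix s hs).2 h2)
  have h2 : ∀ y ∈ Xi, ρ y (d + x) = d + x := fun y hy => by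
    rw [map_add, h y hy, (hx.fix y (F.pi_le hy)).1 hy]
  -- `s` moves `d`
  have h3 : ρ s d = d + a := by
    refine (C.X_D s hs d hd).resolve_left fun h4 => ?_
    have h5 : ∀ u ∈ X, ρ u d = d := by
      intro u hu
      by_cases hu' : u ∈ Xi
      · exact h u hu'
      · have h6 := h _ (mul_mem_of_two (Xi_index F) hs hu hs' hu')
        rw [C.ρ_mul] at h6
        have h7 : ρ s (ρ u d) = ρ s d := by rw [h6, h4]
        exact C.ρ_inj s h7
    rcases fix_X C h5 with h6 | h6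
    · exact h0 h6
    · exact ha h6
  have h4 : ρ s (d + x) = d + x := by
    rw [map_add, h3, h1]
    have : d + a + (x + a) = d + x + (a + a) := by abel
    rw [this, C.add_self, add_zero]
  have h5 : ∀ u ∈ X, ρ u (d + x) = d + x := by
    intro u hu
    by_cases hu' : u ∈ Xi
    · exact h2 u hu'
    · have h6 := h2 _ (mul_mem_of_two (Xi_index F) hs hu hs' hu')
      rw [C.ρ_mul] at h6
      have h7 : ρ s (ρ u (d + x)) = ρ s (d + x) := by rw [h6, h4]
      exact C.ρ_inj s h7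
  rcases fix_X C h5 with h6 | h6
  · exact Or.inr (Or.inr (Or.inl (C.add_eq_zero.1 h6)))
  · refine Or.inr (Or.inr (Or.inr ?_))
    have := congrArg (· + x) h6
    simp only [C.add_add_self] at this
    rw [this, add_comm]

end

end Cfsg.Agent.Omega.EH3.CoTwo
end

-- part: Omega/EH3/CoTwo/Stab
section
set_option linter.all false
open scoped Cfsg.Agent.FastGrp

/-!
# EH3, row `Co₂`, (1), (3), (4): `C_V(Ξ) = {0, a, x̃, x̃ + a}`, `x̃` is not conjugate to `a`, `N_H(Ξ) ≤ H_a` (helper665)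
-/

set_option autoImplicit false
set_option linter.unusedSectionVars false
set_option linter.unusedVariables false

namespace Cfsg.Agent.Omega.EH3.CoTwo

open Subgroup Cfsg.Agent.Omega.EH3

variable {H V : Type*} [Group H] [AddCommGroup V] [Module (ZMod 2) V]
  {ρ : H →* (V ≃ₗ[ZMod 2] V)} {b : LinearMap.BilinForm (ZMod 2) V} {q : V → ZMod 2}
  {a : V} {D : Submodule (ZMod 2) V} {X : Subgroup H} {w : ℕ} {Xi Xf P : Subgroup H}

/-- the stabiliser of a vector. -/
def St (ρ : H →* (V ≃ₗ[ZMod 2] V)) (v : V) : Subgroup H where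
  carrier := {g | ρ g v = v}
  one_mem' := by
    show ρ 1 v = v
    rw [map_one]; rfl
  mul_mem' := by
    intro g h hg hh
    show ρ (g * h) v = v
    rw [map_mul]
    show ρ g (ρ h v) = v
    rw [show ρ h v = v from hh]; exact hg
  inv_mem' := by
    intro g hg
    show ρ g⁻¹ v = v
    have h1 : ρ (g⁻¹ * g) v = v := by rw [inv_mul_cancel, map_one]; rfl
    rw [map_mul] at h1
    have h2 : ρ g⁻¹ (ρ g v) = v := h1
    rwa [show ρ g v = v from hg] at h2

theorem mem_St {v : V} {g : H} : g ∈ St ρ v ↔ ρ g v = v := Iff.rfl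

theorem normalizer_X (C : Cfg ρ b q a D X w) : normalizer (X : Set H) = St ρ a :=
  Subgroup.ext fun _ => mem_N_iff C

/-- fixed vectors modulo a subspace, by at most four commutators. -/
theorem exists_step (C : Cfg ρ b q a D X w) {Z : Subgroup H} (hZ : Z ≤ X)
    {F0 W : Submodule (ZMod 2) V} (hF : ∀ z ∈ Z, ∀ v ∈ F0, ρ z v ∈ F0) {v : V} (hv : v ∈ F0)
    (hvW : v ∉ W) : ∃ u ∈ F0, u ∉ W ∧ ∀ z ∈ Z, cm ρ z u ∈ W := by
  by_contra hcon
  push Not at hcon
  have hcm : ∀ z ∈ Z, ∀ u ∈ F0, cm ρ z u ∈ F0 := fun z hz u hu => F0.add_mem (hF z hz u hu) hu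
  obtain ⟨z1, hz1, h1⟩ := hcon v hv hvW
  have f1 := hcm z1 hz1 v hv
  obtain ⟨z2, hz2, h2⟩ := hcon _ f1 h1
  have f2 := hcm z2 hz2 _ f1
  have d2 : cm ρ z2 (cm ρ z1 v) ∈ D := cm_P C (hZ hz2) (cm_perp C (hZ hz1) v)
  obtain ⟨z3, hz3, h3⟩ := hcon _ f2 h2
  have f3 := hcm z3 hz3 _ f2
  obtain ⟨z4, hz4, h4⟩ := hcon _ f3 h3
  apply h4
  rcases cm_D C (hZ hz3) d2 with h5 | h5
  · rw [h5, cm_zero]; exact W.zero_mem
  · rw [h5, cm_a C (hZ hz4)]; exact W.zero_mem

section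

variable (C : Cfg ρ b q a D X w) (F : CoFacts X Xi Xf P) {x : V} (hx : Pt ρ a D X Xi x)

include C F hx in
theorem mem_Ni {g : H} :
    g ∈ normalizer (X : Set H) ⊓ normalizer (Xi : Set H) ↔
      ρ g a = a ∧ (ρ g x = x ∨ ρ g x = x + a) := by
  have key : ∀ g : H, ρ g a = a → (ρ g x = x ∨ ρ g x = x + a) → ∀ y ∈ Xi, g * y * g⁻¹ ∈ Xi := by
    intro g hga hgx y hy
    have h1 := C.X_norm g hga y (F.pi_le hy)
    have h2 : ρ (g * y * g⁻¹) (ρ g x) = ρ g x := by
      rw [← C.ρ_mul, inv_mul_cancel_right, C.ρ_mul, (hx.fix y (F.pi_le hy)).1 hy]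
    rcases hgx with h3 | h3
    · rw [h3] at h2
      exact (hx.fix _ h1).2 h2
    · rw [h3] at h2
      exact ((hx.add_a C).fix _ h1).2 h2
  rw [mem_inf, mem_N_iff C]
  constructor
  · rintro ⟨hga, hg⟩
    refine ⟨hga, ?_⟩
    have h1 : ∀ y ∈ Xi, ρ y (ρ g x) = ρ g x := by
      intro y hy
      have h2 : g⁻¹ * y * g ∈ Xi := by
        have h3 := (mem_normalizer_iff.1 (inv_mem hg) y).1 hy
        rwa [inv_inv] at h3
      have h4 := (hx.fix _ (F.pi_le h2)).1 h2
      rw [← C.ρ_mul]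
      have h5 : y * g = g * (g⁻¹ * y * g) := by group
      rw [h5, C.ρ_mul, h4]
    rcases ann_Xi C F hx (C.D_inv g hga x hx.mem) h1 with h2 | h2 | h2 | h2
    · exfalso
      apply hx.ne0
      have h3 := C.ρ_inv_apply g x
      rw [h2, map_zero] at h3
      exact h3.symm
    · exact absurd (C.ρ_inj g (h2.trans hga.symm)) hx.nea
    · exact Or.inl h2
    · exact Or.inr h2
  · rintro ⟨hga, hgx⟩
    refine ⟨hga, ?_⟩
    rw [mem_normalizer_iff]
    intro y
    constructor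
    · exact fun hy => key g hga hgx y hy
    · intro hy
      have hga' := C.fix_inv hga
      have hgx' : ρ g⁻¹ x = x ∨ ρ g⁻¹ x = x + a := by
        rcases hgx with h | h
        · exact Or.inl (C.fix_inv h)
        · right
          have h1 : ρ g⁻¹ (x + a) = x := by rw [← h]; exact C.ρ_inv_apply g x
          rw [map_add, hga'] at h1
          have h2 := congrArg (· + a) h1
          simp only [C.add_add_self] at h2
          exact h2
      have h1 := key g⁻¹ hga' hgx' _ hy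
      have h2 : g⁻¹ * (g * y * g⁻¹) * g⁻¹⁻¹ = y := by group
      rwa [h2] at h1

include C F hx in
/-- an element of `X` outside `Ξ`. -/
theorem exists_s : ∃ s ∈ X, s ∉ Xi ∧ ρ s x = x + a := by
  have hfin := C.finite_H
  have hsX : ∃ s ∈ X, s ∉ Xi := by
    by_contra hcon
    push Not at hcon
    have h3 := Subgroup.card_le_of_le (H := X) (K := Xi) hcon
    rw [F.card, F.pi_card] at h3
    norm_num at h3
  obtain ⟨s, hs, hs'⟩ := hsX
  exact ⟨s, hs, hs', (C.X_D s hs x hx.mem).resolve_left fun h2 => hs' ((hx.fix s hs).2 h2)⟩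

include C F hx in
/-- every element of `N_i` is `s j`, with `j` fixing `a` and `x`. -/
theorem Ni_cases {g : H} (hg : g ∈ normalizer (X : Set H) ⊓ normalizer (Xi : Set H)) :
    ∃ s ∈ X, ∃ j : H, ρ j a = a ∧ ρ j x = x ∧ g = s * j := by
  obtain ⟨hga, hgx⟩ := (mem_Ni C F hx).1 hg
  rcases hgx with h | h
  · exact ⟨1, X.one_mem, g, hga, h, by rw [one_mul]⟩
  · obtain ⟨s, hs, hs', hsx⟩ := exists_s C F hx
    refine ⟨s, hs, s⁻¹ * g, ?_, ?_, by group⟩
    · rw [C.ρ_mul, hga]; exact C.fix_inv (C.X_a hs)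
    · rw [C.ρ_mul, h, ← hsx]; exact C.ρ_inv_apply s x

include C F hx in
/-- a `2`-subgroup of `J = C(a) ∩ C(x̃)` normalised by `J` lies in `Ξ`. -/
theorem stab_two (U : Subgroup H) (hU : ∀ u ∈ U, ρ u a = a ∧ ρ u x = x) (hU2 : IsPGroup 2 U)
    (hn : ∀ g, ρ g a = a → ρ g x = x → ∀ u ∈ U, g * u * g⁻¹ ∈ U) : U ≤ Xi := by
  have hX2 : IsPGroup 2 X := by
    intro y
    refine ⟨1, Subtype.ext ?_⟩
    show (y : H) ^ (2 ^ 1) = 1
    rw [pow_one, pow_two]
    exact C.X_sq y y.2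
  have hUN : U ≤ normalizer (X : Set H) := fun u hu => (mem_N_iff C).2 (hU u hu).1
  have h1 : X ⊔ U ≤ X := by
    refine F.pi_two (X ⊔ U) ?_ (IsPGroup.to_sup_of_normal_left' hX2 hU2 hUN) ?_
    · refine sup_le (fun y hy => (mem_Ni C F hx).2 ⟨C.X_a hy, ?_⟩)
        (fun u hu => (mem_Ni C F hx).2 ⟨(hU u hu).1, Or.inl (hU u hu).2⟩)
      exact C.X_D y hy x hx.mem
    · refine le_normalizer_of fun g hg => ?_
      have h2 : X ⊔ U ≤ (X ⊔ U).comap (MulAut.conj g).toMonoidHom := by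
        obtain ⟨s, hs, j, hja, hjx, rfl⟩ := Ni_cases C F hx hg
        have hga : ρ (s * j) a = a := by rw [C.ρ_mul, hja, C.X_a hs]
        refine sup_le (fun y hy => ?_) (fun u hu => ?_)
        · rw [mem_comap]
          exact (le_sup_left : X ≤ X ⊔ U) (C.X_norm _ hga y hy)
        · rw [mem_comap]
          show s * j * u * (s * j)⁻¹ ∈ X ⊔ U
          have h3 : s * j * u * (s * j)⁻¹ = s * (j * u * j⁻¹) * s⁻¹ := by group
          rw [h3]
          have h4 : s ∈ X ⊔ U := (le_sup_left : X ≤ X ⊔ U) hs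
          exact mul_mem (mul_mem h4 ((le_sup_right : U ≤ X ⊔ U) (hn j hja hjx u hu)))
            (inv_mem h4)
      intro y hy
      exact h2 hy
  intro u hu
  exact (hx.fix u (h1 ((le_sup_right : U ≤ X ⊔ U) hu))).2 (hU u hu).2

include C F hx in
/-- `Ξ` is irreducible under `J`. -/
theorem stab_irr (Y : Subgroup H) (hY : Y ≤ Xi)
    (hn : ∀ g, ρ g a = a → ρ g x = x → ∀ y ∈ Y, g * y * g⁻¹ ∈ Y) : Y = ⊥ ∨ Y = Xi := by
  by_cases hne : Y = ⊥
  · exact Or.inl hne
  · right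
    refine le_antisymm hY (F.pi_min Y (hY.trans F.pi_le) hne (le_normalizer_of ?_))
    intro g hg y hy
    obtain ⟨s, hs, j, hja, hjx, rfl⟩ := Ni_cases C F hx hg
    have h3 : s * j * y * (s * j)⁻¹ = s * (j * y * j⁻¹) * s⁻¹ := by group
    have h4 := hn j hja hjx y hy
    rw [h3, C.X_comm hs (F.pi_le (hY h4)), mul_inv_cancel_right]
    exact h4

include C F in
/-- `Y₀ = 1`. -/
theorem Y0_eq {c : V} (hc : b a c = 1) {y : H} (hy : y ∈ X)
    (h : ∀ u ∈ Xi, ∀ v ∈ Xi, TT ρ b c y u v = 0) : y = 1 := by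
  have hc1 : cm ρ (1 : H) c = 0 := by
    rw [cm_eq_zero_iff C]; exact C.ρ_one c
  let Y0 : Subgroup H :=
    { carrier := {y | y ∈ X ∧ ∀ u ∈ Xi, ∀ v ∈ Xi, TT ρ b c y u v = 0}
      one_mem' := ⟨X.one_mem, fun u hu v hv => by unfold TT; rw [hc1, cm_zero]; simp⟩
      mul_mem' := by
        rintro y z ⟨hy, hy'⟩ ⟨hz, hz'⟩
        refine ⟨X.mul_mem hy hz, fun u hu v hv => ?_⟩
        rw [TT_mul1 C hy hz (F.pi_le hu) (F.pi_le hv), hy' u hu v hv, hz' u hu v hv, add_zero]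
      inv_mem' := by
        rintro y ⟨hy, hy'⟩
        rw [C.X_inv hy]
        exact ⟨hy, hy'⟩ }
  have hY0 : ∀ y, y ∈ Y0 ↔ y ∈ X ∧ ∀ u ∈ Xi, ∀ v ∈ Xi, TT ρ b c y u v = 0 := fun _ => Iff.rfl
  have h1 : Y0 = ⊥ := by
    by_contra hne
    have h2 := F.pi_min Y0 (fun y hy => ((hY0 y).1 hy).1) hne (le_normalizer_of ?_)
    · obtain ⟨u, hu, v, hv, t, ht, h3⟩ := exists_TT_ne C F.card F.irr hc F.pi_le F.pi_card
      exact h3 (((hY0 u).1 (h2 hu)).2 v hv t ht)
    · intro g hg y hy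
      obtain ⟨hy1, hy2⟩ := (hY0 y).1 hy
      have hga : ρ g a = a := (mem_N_iff C).1 (mem_inf.1 hg).1
      have hgi := inv_mem (mem_inf.1 hg).2
      refine (hY0 _).2 ⟨C.X_norm g hga y hy1, fun u hu v hv => ?_⟩
      have hu' : g⁻¹ * u * g ∈ Xi := by
        have h3 := (mem_normalizer_iff.1 hgi u).1 hu
        rwa [inv_inv] at h3
      have hv' : g⁻¹ * v * g ∈ Xi := by
        have h3 := (mem_normalizer_iff.1 hgi v).1 hv
        rwa [inv_inv] at h3
      have h4 := TT_conj C hc hga hy1 (F.pi_le hu') (F.pi_le hv')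
      have e1 : g * (g⁻¹ * u * g) * g⁻¹ = u := by group
      have e2 : g * (g⁻¹ * v * g) * g⁻¹ = v := by group
      rw [e1, e2, hy2 _ hu' _ hv'] at h4
      exact h4
  have h2 : y ∈ Y0 := (hY0 y).2 ⟨hy, h⟩
  rw [h1] at h2
  exact mem_bot.1 h2

include C F hx in
/-- (G): `[v, Ξ] ≤ {0, a, x̃, x̃ + a}` implies `v ∈ D`. -/
theorem mem_D_Xi (v : V) (h : ∀ y ∈ Xi, cm ρ y v = 0 ∨ cm ρ y v = a ∨ cm ρ y v = x ∨
    cm ρ y v = x + a) : v ∈ D := by
  obtain ⟨c, hc⟩ := C.exists_off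
  have hD : ∀ y ∈ Xi, cm ρ y v ∈ D ∧ ∀ t ∈ Xi, ρ t (cm ρ y v) = cm ρ y v := by
    intro y hy
    have hfx : ∀ t ∈ Xi, ρ t x = x := fun t ht => (hx.fix t (F.pi_le ht)).1 ht
    have hfa : ∀ t ∈ Xi, ρ t a = a := fun t ht => C.X_a (F.pi_le ht)
    rcases h y hy with h1 | h1 | h1 | h1
    · rw [h1]; exact ⟨D.zero_mem, fun t ht => map_zero _⟩
    · rw [h1]; exact ⟨C.a_mem, hfa⟩
    · rw [h1]; exact ⟨hx.mem, hfx⟩
    · rw [h1]; exact ⟨D.add_mem hx.mem C.a_mem, fun t ht => by rw [map_add, hfx t ht, hfa t ht]⟩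
  have hne : ∃ y ∈ Xi, y ≠ 1 := by
    by_contra hcon
    push Not at hcon
    have : Xi = ⊥ := (Subgroup.eq_bot_iff_forall Xi).2 hcon
    have h1 := F.pi_card
    rw [this, Subgroup.card_bot] at h1
    norm_num at h1
  have hv : b a v = 0 := by
    rcases zmod_two (b a v) with h1 | h1
    · exact h1
    · obtain ⟨y, hy, hy1⟩ := hne
      exact absurd (C.X_semi y (F.pi_le hy) v h1 (hD y hy).1) hy1
  obtain ⟨y, hy, hyv⟩ := exists_sigma C hc hv
  have hy1 : y = 1 := by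
    apply Y0_eq C F hc hy
    intro u hu t ht
    rw [← b_eq_TT C hc hy hyv (F.pi_le hu) (F.pi_le ht) hc]
    exact (b_functional C hc (F.pi_le ht)).2 ((cm_eq_zero_iff C).2 ((hD u hu).2 t ht))
  rw [hy1] at hyv
  have h2 : cm ρ (1 : H) c = 0 := by
    rw [cm_eq_zero_iff C]; exact C.ρ_one c
  rwa [h2, add_zero] at hyv

include C F hx in
/-- **(1)** `C_V(Ξ) = {0, a, x̃, x̃ + a}`. -/
theorem fix_Xi (v : V) (h : ∀ y ∈ Xi, ρ y v = v) : v = 0 ∨ v = a ∨ v = x ∨ v = x + a :=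
  ann_Xi C F hx (mem_D_Xi C F hx v fun y hy => Or.inl ((cm_eq_zero_iff C).2 (h y hy))) h

include C F in
/-- the device of (3): an element of order `3` commuting with `Ξ`, without fixed vectors. -/
theorem TT_zero_of_three {c : V} (hc : b a c = 1) {e : H}
    (he : ∀ y ∈ Xi, e * y * e⁻¹ = y) (h3 : ∀ v, v + ρ e v + ρ e (ρ e v) = 0)
    (hec : b a (ρ e c) = 1) {u v t : H} (hu : u ∈ Xi) (hv : v ∈ Xi) (ht : t ∈ Xi) :
    TT ρ b c u v t = 0 := by
  have hcube : ∀ v, ρ e (ρ e (ρ e v)) = v := by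
    intro v
    have e1 := h3 (ρ e v)
    have e2 := h3 v
    have e3 : ρ e (ρ e (ρ e v)) = ρ e v + ρ e (ρ e v) := (C.add_eq_zero.1 e1).symm
    have e4 : ρ e v + ρ e (ρ e v) = v := by
      rw [add_assoc] at e2
      exact (C.add_eq_zero.1 e2).symm
    rw [e3, e4]
  have hcm : ∀ y ∈ Xi, ∀ v, cm ρ y (ρ e v) = ρ e (cm ρ y v) := by
    intro y hy v
    have h1 := cm_conj C e y v
    rwa [he y hy] at h1
  have hT1 : b (cm ρ v (cm ρ u c)) (ρ e (cm ρ t c)) = TT ρ b c u v t := by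
    rw [← hcm t ht]
    exact b_indep C hc hc hec (F.pi_le hu) (F.pi_le hv) (F.pi_le ht)
  have hT2 : b (ρ e (cm ρ v (cm ρ u c))) (cm ρ t c) = TT ρ b c u v t := by
    rw [← hcm v hv, ← hcm u hu]
    exact b_indep C hc hec hc (F.pi_le hu) (F.pi_le hv) (F.pi_le ht)
  have hT3 : b (cm ρ v (cm ρ u c)) (ρ e (ρ e (cm ρ t c))) = TT ρ b c u v t := by
    rw [← C.b_inv e, hcube, hT2]
  have h4 := congrArg (b (cm ρ v (cm ρ u c))) (h3 (cm ρ t c))
  rw [map_add, map_add, map_zero, hT1, hT3] at h4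
  have h5 : b (cm ρ v (cm ρ u c)) (cm ρ t c) = TT ρ b c u v t := rfl
  rw [h5] at h4
  have : ∀ r : ZMod 2, r + r + r = 0 → r = 0 := by decide
  exact this _ h4

end

end Cfsg.Agent.Omega.EH3.CoTwo
end

-- part: Omega/EH3/CoTwo/Move
section
prune_inst 0x30100500552200000018000030000040700000020040000031400500014f1441a001000152c00f100012004400348020030c00104000000000008200411c05a18402000290081104000001802886000000000000000000000000000000041000000000000
set_option linter.all false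
open scoped Cfsg.Agent.FastGrp

/-!
# EH3, row `Co₂` : the stabiliser of the point `x~` moves `a` (steps (5')-(7') of bb OMEGA 12880)

`e` is a second point of the orbit of `a` under `P` (3 points `a, e, e + a`), `g ∈ P` swaps `a` and `e`,
`D' = g D`, `F = D ∩ D'`.  If `F = ⟨a, e⟩`, the trilinear form vanishes on `Xf = C_X(e)`.
Otherwise `C_X(F) < Xf`, hence `C_X(F) ≤ Xi`, so that `x~ ∈ F ≤ D'`, and a transvection of `D'` with centre `e` fixes
`x~` and moves `a`.
-/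

set_option autoImplicit false

namespace Cfsg.Agent.Omega.EH3.CoTwo

open Subgroup Cfsg.Agent.Omega.EH3

variable {H V : Type*} [Group H] [AddCommGroup V] [Module (ZMod 2) V]
  {ρ : H →* (V ≃ₗ[ZMod 2] V)} {b : LinearMap.BilinForm (ZMod 2) V} {q : V → ZMod 2}
  {a : V} {D : Submodule (ZMod 2) V} {X Xi Xf P : Subgroup H} {w : ℕ}

/-- the orbit of `a` under `P` has three points -/
theorem ncard_orbit (C : Cfg ρ b q a D X w) (F : CoFacts X Xi Xf P) :
    {v : V | ∃ g ∈ P, ρ g a = v}.ncard = 3 := by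
  let _ : MulAction P V := MulAction.compHom V (ρ.comp P.subtype)
  have hsm : ∀ (g : P) (v : V), g • v = ρ (g : H) v := fun g v => rfl
  have h1 : {v : V | ∃ g ∈ P, ρ g a = v} = MulAction.orbit P a := by
    ext v
    constructor
    · rintro ⟨g, hg, rfl⟩
      exact ⟨⟨g, hg⟩, rfl⟩
    · rintro ⟨g, rfl⟩
      exact ⟨g, g.2, rfl⟩
  have h2 : MulAction.stabilizer P a = (P ⊓ normalizer (X : Set H)).subgroupOf P := by
    ext g
    rw [MulAction.mem_stabilizer_iff, Subgroup.mem_subgroupOf, Subgroup.mem_inf, mem_N_iff C, hsm]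
    exact ⟨fun h => ⟨g.2, h⟩, fun h => h.2⟩
  rw [h1, ← MulAction.index_stabilizer, h2]
  exact F.P_ind

/-- the second point `e` -/
theorem exists_pt_P (C : Cfg ρ b q a D X w) (F : CoFacts X Xi Xf P) :
    ∃ e ∈ D, e ≠ 0 ∧ e ≠ a ∧ (∀ x ∈ X, x ∈ Xf ↔ ρ x e = e) ∧ ∃ g : H, ρ g a = e ∧ ρ g e = a := by
  have hVf := C.finite_V
  set S : Set V := {v : V | ∃ g ∈ P, ρ g a = v} with hS
  have hS3 : S.ncard = 3 := ncard_orbit C F
  have haS : a ∈ S := ⟨1, P.one_mem, C.ρ_one a⟩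
  have hPS : ∀ g ∈ P, ∀ v ∈ S, ρ g v ∈ S := by
    rintro g hg v ⟨k, hk, rfl⟩
    exact ⟨g * k, P.mul_mem hg hk, C.ρ_mul g k a⟩
  have h2 : (S \ {a}).ncard = 2 := by
    rw [Set.ncard_sdiff_singleton_of_mem haS, hS3]
  obtain ⟨e, e', hne, hee⟩ := Set.ncard_eq_two.1 h2
  have heS : e ∈ S \ {a} := by rw [hee]; exact Set.mem_insert _ _
  have heS' : e' ∈ S \ {a} := by rw [hee]; exact Set.mem_insert_of_mem _ rfl
  have hea : e ≠ a := heS.2
  have hea' : e' ≠ a := heS'.2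
  have hS' : ∀ v ∈ S, v = a ∨ v = e ∨ v = e' := by
    intro v hv
    by_cases h : v = a
    · exact Or.inl h
    · right
      have : v ∈ S \ {a} := ⟨hv, h⟩
      rw [hee] at this
      exact this
  have hS0 : ∀ v ∈ S, v ≠ 0 := by
    rintro v ⟨g, hg, rfl⟩ h
    apply C.a_ne
    have := C.ρ_inv_apply g a
    rw [h, map_zero] at this
    exact this.symm
  -- action of `X`
  have hXS : ∀ x ∈ X, ρ x e = e ∨ ρ x e = e' := by
    intro x hx
    rcases hS' _ (hPS x (F.X_P hx) e heS.1) with h | h | h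
    · exfalso
      apply hea
      apply C.ρ_inj x
      rw [h, C.X_a hx]
    · exact Or.inl h
    · exact Or.inr h
  have hXS' : ∀ x ∈ X, ρ x e' = e ∨ ρ x e' = e' := by
    intro x hx
    rcases hS' _ (hPS x (F.X_P hx) e' heS'.1) with h | h | h
    · exfalso
      apply hea'
      apply C.ρ_inj x
      rw [h, C.X_a hx]
    · exact Or.inl h
    · exact Or.inr h
  have hfix : ∀ x ∈ X, ρ x e = e → ρ x e' = e' := by
    intro x hx h
    rcases hXS' x hx with h1 | h1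
    · exact absurd (C.ρ_inj x (h1.trans h.symm)).symm hne
    · exact h1
  have hmove : ∀ x ∈ X, ρ x e = e' → ρ x e' = e := by
    intro x hx h
    rcases hXS' x hx with h1 | h1
    · exact h1
    · exact absurd (C.ρ_inj x (h.trans h1.symm)) hne
  obtain ⟨x0, hx0, hx0e⟩ : ∃ x ∈ X, ρ x e = e' := by
    by_contra hcon
    push Not at hcon
    have h : ∀ x ∈ X, ρ x e = e := fun x hx => (hXS x hx).resolve_right (hcon x hx)
    rcases fix_X C h with h1 | h1
    · exact hS0 e heS.1 h1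
    · exact hea h1
  have hsum : ∀ x ∈ X, ρ x (a + e + e') = a + e + e' := by
    intro x hx
    rw [map_add, map_add, C.X_a hx]
    rcases hXS x hx with h | h
    · rw [h, hfix x hx h]
    · rw [h, hmove x hx h]
      abel
  have he' : e' = e + a := by
    rcases fix_X C hsum with h | h
    · have := C.add_eq_zero.1 h
      rw [← this, add_comm]
    · exfalso
      apply hne
      apply C.add_eq_zero.1
      rw [add_assoc] at h
      exact add_eq_left.1 h
  subst he'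
  have heD : e ∈ D := by
    apply mem_D_of C
    intro x hx
    rcases hXS x hx with h | h
    · left; exact (cm_eq_zero_iff C).2 h
    · right
      unfold cm
      rw [h, add_comm e a, add_assoc, C.add_self, add_zero]
  refine ⟨e, heD, hS0 e heS.1, hea, ?_, ?_⟩
  · intro x hx
    rw [F.Xf_def]
    constructor
    · rintro ⟨_, h⟩
      obtain ⟨g, hg, hge⟩ := heS.1
      have h1 := h g⁻¹ (P.inv_mem hg)
      rw [mem_N_iff C, inv_inv, C.ρ_mul, C.ρ_mul, hge] at h1
      have h2 := congrArg (ρ g) h1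
      rw [C.ρ_apply_inv, hge] at h2
      exact h2
    · intro h
      refine ⟨hx, fun g hg => ?_⟩
      rw [mem_N_iff C]
      have h1 : ρ x (ρ g⁻¹ a) = ρ g⁻¹ a := by
        have h2 : ρ g⁻¹ a ∈ S := ⟨g⁻¹, P.inv_mem hg, rfl⟩
        rcases hS' _ h2 with h3 | h3 | h3
        · rw [h3, C.X_a hx]
        · rw [h3, h]
        · rw [h3, hfix x hx h]
      rw [C.ρ_mul, C.ρ_mul, h1, C.ρ_apply_inv]
  · obtain ⟨g, hg, hge⟩ := heS.1
    rcases hS' _ (hPS g hg e heS.1) with h | h | h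
    · exact ⟨g, hge, h⟩
    · exact absurd (C.ρ_inj g (h.trans hge.symm)) hea
    · -- `g e = e + a`, so that `g (e + a) = a`
      have h1 : ρ g (e + a) = a := by
        rw [map_add, h, hge, add_comm e a, add_assoc, C.add_self, add_zero]
      refine ⟨g * x0, ?_, ?_⟩
      · rw [C.ρ_mul, C.X_a hx0, hge]
      · rw [C.ρ_mul, hx0e, h1]

/-! ### the second frame -/

/-- the data of the second frame -/
structure Two (ρ : H →* (V ≃ₗ[ZMod 2] V)) (a : V) (D : Submodule (ZMod 2) V) (X Xf : Subgroup H)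
    (e : V) (g : H) : Prop where
  eD : e ∈ D
  e0 : e ≠ 0
  ea : e ≠ a
  f : ∀ x ∈ X, x ∈ Xf ↔ ρ x e = e
  ga : ρ g a = e
  ge : ρ g e = a

/-- `D' = g D` -/
def DD (ρ : H →* (V ≃ₗ[ZMod 2] V)) (D : Submodule (ZMod 2) V) (g : H) : Submodule (ZMod 2) V :=
  D.comap ((ρ g⁻¹ : V ≃ₗ[ZMod 2] V) : V →ₗ[ZMod 2] V)

theorem mem_DD {g : H} {v : V} : v ∈ DD ρ D g ↔ ρ g⁻¹ v ∈ D := Iff.rfl

section

variable {e : V} {g : H}

theorem ge_inv (C : Cfg ρ b q a D X w) (E : Two ρ a D X Xf e g) : ρ g⁻¹ e = a := by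
  rw [← E.ga, C.ρ_inv_apply]

theorem ga_inv (C : Cfg ρ b q a D X w) (E : Two ρ a D X Xf e g) : ρ g⁻¹ a = e := by
  nth_rewrite 1 [← E.ge]
  rw [C.ρ_inv_apply]

theorem e_DD (C : Cfg ρ b q a D X w) (E : Two ρ a D X Xf e g) : e ∈ DD ρ D g := by
  rw [mem_DD, ge_inv C E]; exact C.a_mem

theorem a_DD (C : Cfg ρ b q a D X w) (E : Two ρ a D X Xf e g) : a ∈ DD ρ D g := by
  rw [mem_DD, ga_inv C E]; exact E.eD

/-- `D'` is invariant under the stabiliser of `e` -/
theorem DD_inv (C : Cfg ρ b q a D X w) (E : Two ρ a D X Xf e g) {h : H} (hh : ρ h e = e) {v : V}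
    (hv : v ∈ DD ρ D g) : ρ h v ∈ DD ρ D g := by
  rw [mem_DD] at hv ⊢
  have h1 : ρ g⁻¹ (ρ h v) = ρ (g⁻¹ * h * g) (ρ g⁻¹ v) := by
    rw [C.ρ_mul, C.ρ_mul, C.ρ_apply_inv]
  rw [h1]
  apply C.D_inv _ _ _ hv
  rw [C.ρ_mul, C.ρ_mul, E.ga, hh, ge_inv C E]

theorem DD_perp (C : Cfg ρ b q a D X w) (E : Two ρ a D X Xf e g) {v : V} (hv : v ∈ DD ρ D g) :
    b a v = 0 := by
  have h := C.b_D (ga_inv C E ▸ E.eD : ρ g⁻¹ a ∈ D) (mem_DD.1 hv)
  rwa [C.b_inv] at h

/-- `F = D ∩ D'` is invariant under `X` -/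
theorem F_X (C : Cfg ρ b q a D X w) (E : Two ρ a D X Xf e g) {x : H} (hx : x ∈ X) {v : V}
    (hv : v ∈ D ⊓ DD ρ D g) : ρ x v ∈ D ⊓ DD ρ D g := by
  rcases C.X_D x hx v hv.1 with h | h
  · rw [h]; exact hv
  · rw [h]
    exact Submodule.add_mem _ hv ⟨C.a_mem, a_DD C E⟩

/-- an element of `X` moving `e` -/
theorem exists_x0 (C : Cfg ρ b q a D X w) (E : Two ρ a D X Xf e g) : ∃ x ∈ X, ρ x e = e + a := by
  by_contra hcon
  push Not at hcon
  have h : ∀ x ∈ X, ρ x e = e := fun x hx => (C.X_D x hx e E.eD).resolve_right (hcon x hx)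
  rcases fix_X C h with h1 | h1
  · exact E.e0 h1
  · exact E.ea h1

/-- an element of `N_f` times an element of `X` fixes `e` -/
theorem exists_fix (C : Cfg ρ b q a D X w) (E : Two ρ a D X Xf e g) {n : H}
    (hn : n ∈ normalizer (X : Set H) ⊓ normalizer (Xf : Set H)) : ∃ x ∈ X, ρ (x * n) e = e := by
  have hna : ρ n a = a := (mem_N_iff C).1 hn.1
  have hneD : ρ n e ∈ D := C.D_inv n hna e E.eD
  have key : ∀ x ∈ X, ρ x (ρ n e + e) = ρ n e + e := by
    intro x hx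
    have hx' : n⁻¹ * x * n ∈ X := by
      have h3 := (mem_normalizer_iff.1 (inv_mem hn.1) x).1 hx
      rwa [inv_inv] at h3
    have h1 : n⁻¹ * x * n ∈ Xf ↔ x ∈ Xf := by
      have h3 := mem_normalizer_iff.1 (inv_mem hn.2) x
      rw [inv_inv] at h3
      exact h3.symm
    have h2 : ρ (n⁻¹ * x * n) e = e ↔ ρ x (ρ n e) = ρ n e := by
      rw [C.ρ_mul, C.ρ_mul]
      constructor
      · intro h
        have := congrArg (ρ n) h
        rwa [C.ρ_apply_inv] at this
      · intro h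
        rw [h, C.ρ_inv_apply]
    rw [E.f _ hx', h2, E.f x hx] at h1
    rw [map_add]
    rcases C.X_D x hx _ hneD with h3 | h3
    · rw [h3, h1.1 h3]
    · rcases C.X_D x hx _ E.eD with h4 | h4
      · rw [h1.2 h4, h4]
      · rw [h3, h4]
        have : ρ n e + a + (e + a) = ρ n e + e + (a + a) := by abel
        rw [this, C.add_self, add_zero]
  rcases fix_X C key with h | h
  · exact ⟨1, X.one_mem, by rw [one_mul]; exact C.add_eq_zero.1 h⟩
  · obtain ⟨x, hx, hxe⟩ := exists_x0 C E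
    refine ⟨x, hx, ?_⟩
    have h1 : ρ n e = e + a := by
      have := C.add_add_self (ρ n e) e
      rw [h] at this
      rw [← this, add_comm]
    rw [C.ρ_mul, h1, map_add, hxe, C.X_a hx, add_assoc, C.add_self, add_zero]

/-- `F` is invariant under `N_f` -/
theorem F_N (C : Cfg ρ b q a D X w) (E : Two ρ a D X Xf e g) {n : H}
    (hn : n ∈ normalizer (X : Set H) ⊓ normalizer (Xf : Set H)) {v : V}
    (hv : v ∈ D ⊓ DD ρ D g) : ρ n v ∈ D ⊓ DD ρ D g := by
  obtain ⟨x, hx, hxe⟩ := exists_fix C E hn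
  have hna : ρ n a = a := (mem_N_iff C).1 hn.1
  have h1 : ρ (x * n) v ∈ D ⊓ DD ρ D g :=
    ⟨C.D_inv _ (by rw [C.ρ_mul, hna, C.X_a hx]) v hv.1, DD_inv C E hxe hv.2⟩
  have h2 := F_X C E (X.inv_mem hx) h1
  rwa [C.ρ_mul, C.ρ_inv_apply] at h2

/-! ### `F` is larger than `⟨a, e⟩` -/

/-- the homomorphism `D' → X` -/
theorem exists_hom (C : Cfg ρ b q a D X w) (E : Two ρ a D X Xf e g) {c : V} (hc : b a c = 1) :
    ∃ f : Multiplicative (DD ρ D g) →* X, ∀ (v : DD ρ D g) (y : X),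
      f (Multiplicative.ofAdd v) = y ↔ C.Bel c (y : H) (v : V) := by
  have h : ∀ v : DD ρ D g, ∃ y : X, C.Bel c (y : H) (v : V) := by
    intro v
    obtain ⟨y, hy⟩ := C.exists_bel hc (DD_perp C E v.2)
    exact ⟨⟨y, hy.1⟩, hy⟩
  choose f hf using h
  have huniq : ∀ (v : DD ρ D g) (y : X), C.Bel c (y : H) (v : V) → f v = y := by
    intro v y hy
    apply Subtype.ext
    exact (hf v).unique hc hy (by rw [C.add_self]; exact D.zero_mem)
  refine ⟨MonoidHom.mk' (fun v => f (Multiplicative.toAdd v)) ?_, ?_⟩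
  · intro u v
    apply huniq
    rw [toAdd_mul, Submodule.coe_add, Subgroup.coe_mul]
    exact (hf _).mul (hf _)
  · intro v y
    constructor
    · intro h
      have h1 : f v = y := h
      rw [← h1]
      exact hf v
    · intro h
      exact huniq v y h

theorem card_DD (C : Cfg ρ b q a D X w) : Nat.card (DD ρ D g) = 2 ^ w := by
  rw [← C.card_D]
  apply Nat.card_congr
  refine ⟨fun v => ⟨ρ g⁻¹ v, v.2⟩, fun v => ⟨ρ g v, ?_⟩, ?_, ?_⟩
  · rw [mem_DD, C.ρ_inv_apply]; exact v.2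
  · intro v; apply Subtype.ext; exact C.ρ_apply_inv g v
  · intro v; apply Subtype.ext; exact C.ρ_inv_apply g v

theorem F_big (C : Cfg ρ b q a D X w) (F : CoFacts X Xi Xf P) (E : Two ρ a D X Xf e g) {c : V}
    (hc : b a c = 1) (hT : ∃ x ∈ Xf, ∃ y ∈ Xf, ∃ t ∈ Xf, TT ρ b c x y t ≠ 0) :
    ∃ v ∈ D ⊓ DD ρ D g, v ≠ 0 ∧ v ≠ a ∧ v ≠ e ∧ v ≠ e + a := by
  classical
  have hVf := C.finite_V
  have hHf := C.finite_H
  by_contra hcon
  push Not at hcon
  have hU : ∀ v ∈ D ⊓ DD ρ D g, v = 0 ∨ v = a ∨ v = e ∨ v = e + a := by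
    intro v hv
    by_contra h
    push Not at h
    exact h.2.2.2 (hcon v hv h.1 h.2.1 h.2.2.1)
  have hw : w = 11 := by
    have h1 := C.card_X
    rw [F.card] at h1
    have h2 : 10 = w - 1 := Nat.pow_right_injective le_rfl h1
    omega
  obtain ⟨f, hf⟩ := exists_hom C E hc
  -- the kernel
  have hkm : ∀ v : DD ρ D g, Multiplicative.ofAdd v ∈ f.ker ↔ (v : V) ∈ D := by
    intro v
    rw [MonoidHom.mem_ker, hf v 1]
    constructor
    · intro h
      have h1 := h.2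
      rwa [Subgroup.coe_one, C.ρ_one, C.add_self, zero_add] at h1
    · intro h
      refine ⟨X.one_mem, ?_⟩
      rw [Subgroup.coe_one, C.ρ_one, C.add_self, zero_add]
      exact h
  have hmemU : ∀ v : V, v ∈ ({0, a, e, e + a} : Set V) → v ∈ D ∧ v ∈ DD ρ D g := by
    intro v hv
    have ha : a ∈ DD ρ D g := a_DD C E
    have he : e ∈ DD ρ D g := e_DD C E
    rcases hv with rfl | rfl | rfl | rfl
    · exact ⟨D.zero_mem, Submodule.zero_mem _⟩
    · exact ⟨C.a_mem, ha⟩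
    · exact ⟨E.eD, he⟩
    · exact ⟨D.add_mem E.eD C.a_mem, Submodule.add_mem _ he ha⟩
  have hker : Nat.card f.ker = 4 := by
    have h1 : Nat.card f.ker = Nat.card ({0, a, e, e + a} : Set V) := by
      apply Nat.card_congr
      refine ⟨fun v => ⟨((Multiplicative.toAdd (v : Multiplicative (DD ρ D g)) : DD ρ D g) : V), ?_⟩,
        fun v => ⟨Multiplicative.ofAdd ⟨v, (hmemU v v.2).2⟩, (hkm _).2 (hmemU v v.2).1⟩,
        fun v => rfl, fun v => rfl⟩
      exact hU _ ⟨(hkm _).1 v.2, (Multiplicative.toAdd (v : Multiplicative (DD ρ D g))).2⟩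
    rw [h1, Nat.card_coe_set_eq, Set.ncard_insert_of_notMem, Set.ncard_insert_of_notMem,
      Set.ncard_insert_of_notMem, Set.ncard_singleton]
    · intro h
      exact C.a_ne (left_eq_add.1 h)
    · rintro (h | h)
      · exact E.ea h.symm
      · exact E.e0 (right_eq_add.1 h)
    · rintro (h | h | h)
      · exact C.a_ne h.symm
      · exact E.e0 h.symm
      · exact E.ea (C.add_eq_zero.1 (Eq.symm h))
  have hrange : Nat.card f.range = 2 ^ 9 := by
    have h1 := f.ker.card_mul_index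
    rw [Subgroup.index_ker, hker] at h1
    have h2 : Nat.card (Multiplicative (DD ρ D g)) = 2 ^ 11 := by
      rw [Nat.card_congr Multiplicative.toAdd, card_DD C, hw]
    rw [h2] at h1
    omega
  set Y : Subgroup H := f.range.map X.subtype with hY
  have hYmem : ∀ y : H, y ∈ Y ↔ ∃ v ∈ DD ρ D g, C.Bel c y v := by
    intro y
    rw [hY, Subgroup.mem_map]
    constructor
    · rintro ⟨y', ⟨v, hv⟩, rfl⟩
      exact ⟨_, (Multiplicative.toAdd v).2, (hf (Multiplicative.toAdd v) y').1 hv⟩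
    · rintro ⟨v, hv, h⟩
      exact ⟨⟨y, h.1⟩, ⟨Multiplicative.ofAdd ⟨v, hv⟩, (hf ⟨v, hv⟩ ⟨y, h.1⟩).2 h⟩, rfl⟩
  have hYX : Y ≤ X := by
    intro y hy
    obtain ⟨v, _, h⟩ := (hYmem y).1 hy
    exact h.1
  have hYcard : Nat.card Y = 2 ^ 9 := by
    rw [hY, Subgroup.card_map_of_injective X.subtype_injective, hrange]
  have hYn : ∀ n ∈ normalizer (X : Set H) ⊓ normalizer (Xf : Set H), ∀ y ∈ Y, n * y * n⁻¹ ∈ Y := by
    intro n hn y hy
    obtain ⟨v, hv, h⟩ := (hYmem y).1 hy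
    obtain ⟨x, hx, hxe⟩ := exists_fix C E hn
    have hna : ρ n a = a := (mem_N_iff C).1 hn.1
    have hxna : ρ (x * n) a = a := by rw [C.ρ_mul, hna, C.X_a hx]
    have hnyX : n * y * n⁻¹ ∈ X := C.X_norm n hna y h.1
    have e1 : x * n * y * (x * n)⁻¹ = n * y * n⁻¹ := by
      have e2 : x * n * y * (x * n)⁻¹ = x * (n * y * n⁻¹) * x⁻¹ := by group
      rw [e2, C.X_comm hx hnyX, mul_inv_cancel_right]
    rw [hYmem]
    refine ⟨ρ (x * n) v, DD_inv C E hxe hv, ?_⟩
    apply Cfg.Bel.indep (c := ρ (x * n) c) _ hc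
    · refine ⟨hnyX, ?_⟩
      rw [← e1, C.ρ_mul, C.ρ_mul, C.ρ_inv_apply, ← map_add, ← map_add]
      exact C.D_inv _ hxna _ h.2
    · rw [C.b_a_ρ hxna, hc]
  have hYf : Y = Xf := by
    apply F.f_uniq Y hYX hYcard
    intro n hn
    rw [mem_normalizer_iff]
    intro y
    refine ⟨fun hy => hYn n hn y hy, fun hy => ?_⟩
    have := hYn n⁻¹ (inv_mem hn) _ hy
    have e1 : n⁻¹ * (n * y * n⁻¹) * n⁻¹⁻¹ = y := by group
    rwa [e1] at this
  obtain ⟨y, hy, x, hx, t, ht, hyxt⟩ := hT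
  apply hyxt
  have hXfX : Xf ≤ X := fun x hx => ((F.Xf_def x).1 hx).1
  obtain ⟨v, hv, h⟩ := (hYmem y).1 (hYf ▸ hy)
  have h1 : v + cm ρ y c ∈ D := by
    unfold cm
    rw [add_comm]; exact h.2
  rw [← b_eq_TT C hc h.1 h1 (hXfX hx) (hXfX ht) hc, ← b_cm C (hXfX ht)]
  have h2 : cm ρ x v ∈ D ⊓ DD ρ D g := by
    refine ⟨C.X_perp x (hXfX hx) v (DD_perp C E hv), ?_⟩
    unfold cm
    exact Submodule.add_mem _ (DD_inv C E ((E.f x (hXfX hx)).1 hx) hv) hv
  have hte : ρ t e = e := (E.f t (hXfX ht)).1 ht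
  have hta : ρ t a = a := C.X_a (hXfX ht)
  have h3 : cm ρ t (cm ρ x v) = 0 := by
    rw [cm_eq_zero_iff C]
    rcases hU _ h2 with h4 | h4 | h4 | h4
    · rw [h4, map_zero]
    · rw [h4, hta]
    · rw [h4, hte]
    · rw [h4, map_add, hte, hta]
  rw [h3, map_zero, LinearMap.zero_apply]

end

/-- **steps (5')-(7')**: the stabiliser of `x~` moves `a` -/
theorem move (C : Cfg ρ b q a D X w) (F : CoFacts X Xi Xf P) {c : V} (hc : b a c = 1)
    (hT : ∃ x ∈ Xf, ∃ y ∈ Xf, ∃ t ∈ Xf, TT ρ b c x y t ≠ 0) {xt : V} (hxD : xt ∈ D) (hx0 : xt ≠ 0)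
    (hxa : xt ≠ a) (hXi : ∀ x ∈ X, x ∈ Xi ↔ ρ x xt = xt) : ∃ s : H, ρ s xt = xt ∧ ρ s a ≠ a := by
  obtain ⟨e, heD, he0, hea, hf, g, hga, hge⟩ := exists_pt_P C F
  have E : Two ρ a D X Xf e g := ⟨heD, he0, hea, hf, hga, hge⟩
  have hXfX : Xf ≤ X := fun x hx => ((F.Xf_def x).1 hx).1
  obtain ⟨v, hv, hv0, hva, hve, hvea⟩ := F_big C F E hc hT
  -- the annihilator of `F`
  set R : Subgroup H := {
    carrier := {x | x ∈ X ∧ ∀ u ∈ D ⊓ DD ρ D g, ρ x u = u}
    one_mem' := ⟨X.one_mem, fun u _ => C.ρ_one u⟩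
    mul_mem' := fun {x y} hx hy => ⟨X.mul_mem hx.1 hy.1, fun u hu => by
      rw [C.ρ_mul, hy.2 u hu, hx.2 u hu]⟩
    inv_mem' := fun {x} hx => ⟨X.inv_mem hx.1, fun u hu => C.fix_inv (hx.2 u hu)⟩ } with hR
  have hRmem : ∀ x, x ∈ R ↔ x ∈ X ∧ ∀ u ∈ D ⊓ DD ρ D g, ρ x u = u := fun x => Iff.rfl
  have heF : e ∈ D ⊓ DD ρ D g := ⟨E.eD, e_DD C E⟩
  have haF : a ∈ D ⊓ DD ρ D g := ⟨C.a_mem, a_DD C E⟩
  have hRf : R ≤ Xf := fun x hx => (E.f x hx.1).2 (hx.2 e heF)
  have hne : R ≠ Xf := by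
    intro h
    have hspan : v ∉ Submodule.span (ZMod 2) {a, e} := by
      intro h1
      rw [Submodule.mem_span_pair] at h1
      obtain ⟨r, s, h2⟩ := h1
      rcases zmod_two r with rfl | rfl <;> rcases zmod_two s with rfl | rfl <;>
        simp only [zero_smul, one_smul, add_zero, zero_add] at h2
      · exact hv0 h2.symm
      · exact hve h2.symm
      · exact hva h2.symm
      · exact hvea (by rw [← h2, add_comm])
    have hle : Submodule.span (ZMod 2) {a, e} ≤ D := by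
      rw [Submodule.span_le]
      rintro u (rfl | rfl)
      · exact C.a_mem
      · exact heD
    obtain ⟨x, hx, hx1, hx2⟩ := exists_ann C hle
      (Submodule.subset_span (Set.mem_insert _ _)) hv.1 hspan
    have h3 : x ∈ Xf := (E.f x hx).2 (hx1 e (Submodule.subset_span (Set.mem_insert_of_mem _ rfl)))
    rw [← h] at h3
    have h4 := h3.2 v hv
    rw [hx2] at h4
    exact C.a_ne (add_eq_left.1 h4)
  have hRn : ∀ n ∈ normalizer (X : Set H) ⊓ normalizer (Xf : Set H), ∀ x ∈ R, n * x * n⁻¹ ∈ R := by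
    intro n hn x hx
    refine ⟨C.X_norm n ((mem_N_iff C).1 hn.1) x hx.1, fun u hu => ?_⟩
    rw [C.ρ_mul, C.ρ_mul, hx.2 _ (F_N C E (inv_mem hn) hu), C.ρ_apply_inv]
  have hRi : R ≤ Xi := by
    apply F.f_max R hRf hne
    intro n hn
    rw [mem_normalizer_iff]
    intro y
    refine ⟨fun hy => hRn n hn y hy, fun hy => ?_⟩
    have := hRn n⁻¹ (inv_mem hn) _ hy
    have e1 : n⁻¹ * (n * y * n⁻¹) * n⁻¹⁻¹ = y := by group
    rwa [e1] at this
  have hxF : xt ∈ D ⊓ DD ρ D g := by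
    by_contra hcon
    obtain ⟨x, hx, hx1, hx2⟩ := exists_ann C inf_le_left haF hxD hcon
    have h1 : x ∈ Xi := hRi ⟨hx, hx1⟩
    rw [hXi x hx, hx2] at h1
    exact C.a_ne (add_eq_left.1 h1)
  have hxe : xt ≠ e := by
    rintro rfl
    apply F.f_ne
    ext x
    constructor
    · intro h
      exact (E.f x (F.pi_le h)).2 ((hXi x (F.pi_le h)).1 h)
    · intro h
      exact (hXi x (hXfX h)).2 ((E.f x (hXfX h)).1 h)
  have hxea : xt ≠ e + a := by
    rintro rfl
    apply F.f_ne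
    ext x
    constructor
    · intro h
      have h1 := (hXi x (F.pi_le h)).1 h
      rw [map_add, C.X_a (F.pi_le h)] at h1
      exact (E.f x (F.pi_le h)).2 (add_right_cancel h1)
    · intro h
      apply (hXi x (hXfX h)).2
      rw [map_add, C.X_a (hXfX h), (E.f x (hXfX h)).1 h]
  -- the transvection of `D'` with centre `e`
  have hspan : a ∉ Submodule.span (ZMod 2) {e, xt} := by
    intro h1
    rw [Submodule.mem_span_pair] at h1
    obtain ⟨r, s, h2⟩ := h1
    rcases zmod_two r with rfl | rfl <;> rcases zmod_two s with rfl | rfl <;>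
      simp only [zero_smul, one_smul, add_zero, zero_add] at h2
    · exact C.a_ne h2.symm
    · exact hxa h2
    · exact hea h2
    · apply hxea
      have := C.add_add_self xt e
      rw [← this, add_comm xt e, h2, add_comm]
  obtain ⟨φ, hφ1, hφ2⟩ := Submodule.exists_dual_map_eq_bot_of_notMem hspan inferInstance
  have hφ : ∀ u ∈ Submodule.span (ZMod 2) {e, xt}, φ u = 0 := by
    intro u hu
    have : φ u ∈ (Submodule.span (ZMod 2) {e, xt}).map φ := Submodule.mem_map_of_mem hu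
    rw [hφ2] at this
    exact (Submodule.mem_bot _).1 this
  have hφe : φ e = 0 := hφ e (Submodule.subset_span (Set.mem_insert _ _))
  have hφx : φ xt = 0 := hφ xt (Submodule.subset_span (Set.mem_insert_of_mem _ rfl))
  obtain ⟨x, hx, hxd⟩ := C.X_all (φ ∘ₗ ((ρ g : V ≃ₗ[ZMod 2] V) : V →ₗ[ZMod 2] V)) (by
    rw [LinearMap.comp_apply]
    change φ (ρ g a) = 0
    rw [hga, hφe])
  have key : ∀ u ∈ DD ρ D g, ρ (g * x * g⁻¹) u = u + φ u • e := by
    intro u hu
    rw [C.ρ_mul, C.ρ_mul, hxd _ (mem_DD.1 hu), map_add, C.ρ_apply_inv, map_smul, hga]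
    congr 2
    rw [LinearMap.comp_apply]
    change φ (ρ g (ρ g⁻¹ u)) = φ u
    rw [C.ρ_apply_inv]
  refine ⟨g * x * g⁻¹, ?_, ?_⟩
  · rw [key xt hxF.2, hφx, zero_smul, add_zero]
  · rw [key a haF.2, zmod_two_ne hφ1, one_smul]
    intro h
    exact he0 (add_eq_left.1 h)

end Cfsg.Agent.Omega.EH3.CoTwo
end

-- part: Mrg/Omega/ML/LieTwF4
section
prune_inst 0xd0004300050000000000058011002040640000920063000191000240020611400000070040801910100a220000040000000400d0000000000000000000000521802a000210000000200001003086000000000000000000000000000000041004000000000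
set_option linter.all false
open scoped Cfsg.Agent.FastGrp

section


/-!
# (ML), the K-list end: the row `²F₄(q)`, `q ≥ 8` (helper335)

`X` almost simple with socle `S = ²F₄(q)`, `X = SA`, `A ≤ O₂(R)` for all `T ≤ R < X`, `T` a Sylow 2-subgroup.

* `AS.eq_top` : `X = S`, because all automorphisms of 2-power order of `²F₄(q)` are inner;
* `AS.exists_opp` : **there is a Sylow 2-subgroup `T'` of `X` with `A ⊓ R' = ⊥` for all `T' ≤ R' < X`** (the opposite
  one: `A` lies in the unipotent radicals of both maximal parabolic subgroups over `T`);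
* `exists_opp` : the same for one element `x` of all `O₂(R)`, `T ≤ R < X` (the literal form of helper116).
-/

set_option autoImplicit false
set_option linter.unusedSectionVars false

namespace Cfsg.Agent.Omega.ML.LieTwF4

open Subgroup Cfsg Cfsg.Lie Cfsg.Agent.ZN
open Cfsg.Agent.SplitTwo Cfsg.Agent.SplitTwo.ZS Cfsg.Agent.TitsThree.RankTwoZ Cfsg.Agent.SplitTwo.RootSysZ
open Cfsg.Agent.KFacts.TwF4 Cfsg.Agent.KFacts.TwF4.Arc Cfsg.Agent.KFacts.TwF4.Inv Cfsg.Agent.KFacts.TwF4.SylU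
open Cfsg.Agent.Omega.ML.TwF4Opp
open Cfsg.Agent.MinSimple.VModule (o2_isPGroup o2_le le_o2 le_normalizer_o2)
open Cfsg.Agent.Omega.ML.Rows (AS)

universe u v

section coord

variable {F : Type*} [Field F] [Finite F] {σ : F →+* F} {G : Type*} [Group G] [Finite G] [IsSimpleGroup G]
  (S : Full σ G) {X : Type*} [Group X] [Finite X]

/-- the image of a normal 2-subgroup of `R` under an isomorphism -/
theorem norm_comap (f : G ≃* X) (R : Subgroup G) :
    R ≤ normalizer (((o2 (R.map f.toMonoidHom)).comap f.toMonoidHom : Subgroup G) : Set G) := by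
  intro r hr
  have h1 := le_normalizer_o2 (R.map f.toMonoidHom) (mem_map_of_mem f.toMonoidHom hr)
  rw [mem_normalizer_iff] at h1 ⊢
  intro x
  have h2 := h1 (f x)
  show f x ∈ o2 (R.map f.toMonoidHom) ↔ f (r * x * r⁻¹) ∈ o2 (R.map f.toMonoidHom)
  rw [map_mul, map_mul, map_inv]
  exact h2

theorem map_ne_top (f : G ≃* X) {R : Subgroup G} (hR : R ≠ ⊤) : R.map f.toMonoidHom ≠ ⊤ := by
  intro h
  apply hR
  rw [eq_top_iff]
  intro x _
  have h1 : f x ∈ R.map f.toMonoidHom := by rw [h]; exact mem_top _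
  obtain ⟨y, hy, e⟩ := h1
  have e1 : y = x := f.injective e
  rwa [← e1]

/-- one element -/
theorem core (hF : ∃ c : Fˣ, c ≠ 1) (hR : S.R.p = 2) (f : G ≃* X) {x : X}
    (low : ∀ R : Subgroup X, (J S.XZ 1 8).map f.toMonoidHom ≤ R → R ≠ ⊤ → x ∈ o2 R) {R : Subgroup X}
    (h1 : (J S.XZ 9 16).map f.toMonoidHom ≤ R) (h2 : R ≠ ⊤) (hx : x ∈ R) : x = 1 := by
  have Z := S.zsys8
  obtain ⟨y, rfl⟩ := f.surjective x
  have hU1 : J S.XZ 1 8 ≤ normalizer (J S.XZ 2 8 : Set G) := by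
    refine J_le fun k h1 h2 => ?_
    exact (X_le_J (by omega) (by omega)).trans (Z.le_normalizer (a := 2) (b := 8) (by norm_num))
  have hU2 : J S.XZ 1 8 ≤ normalizer (J S.XZ 1 7 : Set G) := by
    refine J_le fun k h1 h2 => ?_
    exact (X_le_J (by omega) (by omega)).trans (Z.le_normalizer (a := 1) (b := 7) (by norm_num))
  have key : ∀ N : Subgroup G, J S.XZ 1 8 ≤ N → N ≠ ⊤ →
      y ∈ (o2 (N.map f.toMonoidHom)).comap f.toMonoidHom := fun N hN hN1 =>
    low (N.map f.toMonoidHom) (Subgroup.map_mono hN) (map_ne_top f hN1)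
  have htwo : ∀ N : Subgroup G, IsPGroup 2 ↥((o2 (N.map f.toMonoidHom)).comap f.toMonoidHom) := fun N =>
    (o2_isPGroup _).comap_of_injective f.toMonoidHom f.injective
  have h3 : y ∈ J S.XZ 2 8 := two_le_one S hF hR (htwo _) (norm_comap f _)
    (key _ hU1 (norm_ne_top S (by norm_num) (by norm_num)))
  have h4 : y ∈ J S.XZ 1 7 := two_le_two S hF hR (htwo _) (norm_comap f _)
    (key _ hU2 (norm_ne_top S (by norm_num) (by norm_num)))
  have h5 : R.comap f.toMonoidHom ≠ ⊤ := by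
    intro h
    apply h2
    rw [eq_top_iff]
    intro z _
    obtain ⟨w, rfl⟩ := f.surjective z
    have : w ∈ R.comap f.toMonoidHom := by rw [h]; exact mem_top _
    exact this
  have h6 := opp S hF hR (R := R.comap f.toMonoidHom) (Subgroup.map_le_iff_le_comap.1 h1) h5 h3 h4 hx
  rw [h6, map_one]

/-- an isomorphism carrying `U` to a given Sylow 2-subgroup -/
theorem exists_iso (hF : ∃ c : Fˣ, c ≠ 1) (hR : S.R.p = 2) (e : G ≃* X) {T : Subgroup X} (hT : IsPGroup 2 T)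
    (hs : ¬ 2 ∣ T.index) : ∃ f : G ≃* X, (J S.XZ 1 8).map f.toMonoidHom = T := by
  have hfact : Fact (Nat.Prime 2) := ⟨Nat.prime_two⟩
  obtain ⟨P, hP⟩ := exists_sylow S hF hR
  have hT2 : IsPGroup 2 ↥(T.comap e.toMonoidHom) := hT.comap_of_injective e.toMonoidHom e.injective
  have hi : ¬ 2 ∣ (T.comap e.toMonoidHom).index := by
    rw [index_comap_of_surjective T e.surjective]
    exact hs
  obtain ⟨g, hg⟩ := MulAction.exists_smul_eq G P (hT2.toSylow hi)
  have h1 : ∀ y, y ∈ J S.XZ 1 8 ↔ e (g * y * g⁻¹) ∈ T := by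
    intro y
    have h2 : g * y * g⁻¹ ∈ ((g • P : Sylow 2 G) : Subgroup G) ↔ y ∈ (P : Subgroup G) := by
      rw [Sylow.coe_subgroup_smul]
      have h3 := Subgroup.smul_mem_pointwise_smul_iff (a := MulAut.conj g) (S := (P : Subgroup G)) (x := y)
      exact h3
    rw [← hP, ← h2, hg]
    rfl
  refine ⟨(MulAut.conj g).trans e, ?_⟩
  ext x
  constructor
  · rintro ⟨y, hy, rfl⟩
    exact (h1 y).1 hy
  · intro hx
    obtain ⟨z, rfl⟩ := e.surjective x
    refine ⟨g⁻¹ * z * g, (h1 _).2 ?_, ?_⟩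
    · rwa [show g * (g⁻¹ * z * g) * g⁻¹ = z by group]
    · show e (g * (g⁻¹ * z * g) * g⁻¹) = e z
      rw [show g * (g⁻¹ * z * g) * g⁻¹ = z by group]

/-- **the opposite Sylow 2-subgroup** -/
theorem exists_opp_full (hF : ∃ c : Fˣ, c ≠ 1) (hR : S.R.p = 2) (e : G ≃* X) {T : Subgroup X} (hT : IsPGroup 2 T)
    (hs : ¬ 2 ∣ T.index) : ∃ T' : Subgroup X, IsPGroup 2 T' ∧ ¬ 2 ∣ T'.index ∧
      ∀ x : X, (∀ R : Subgroup X, T ≤ R → R ≠ ⊤ → x ∈ o2 R) →
        ∀ R' : Subgroup X, T' ≤ R' → R' ≠ ⊤ → x ∈ R' → x = 1 := by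
  obtain ⟨f, hf⟩ := exists_iso S hF hR e hT hs
  have h2 : IsPGroup 2 ↥(J S.XZ 9 16) := two_arc S.zsys8 (two_X S hR) (by norm_num)
  refine ⟨(J S.XZ 9 16).map f.toMonoidHom, h2.map _, ?_, ?_⟩
  · have h3 : Nat.card ↥((J S.XZ 9 16).map f.toMonoidHom) = Nat.card T := by
      rw [← hf, card_map_of_injective f.injective, card_map_of_injective f.injective]
      have h4 : (J S.XZ 9 16).map (S.ck (-4)).toMonoidHom = J S.XZ 1 8 := by
        have := S.map_J (k := -4) (a := 9) (b := 16)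
        norm_num at this
        exact this
      rw [← h4, card_map_of_injective (S.ck (-4)).injective]
    have h4 : ((J S.XZ 9 16).map f.toMonoidHom).index = T.index := by
      have h5 := ((J S.XZ 9 16).map f.toMonoidHom).index_mul_card
      have h6 := T.index_mul_card
      rw [h3] at h5
      exact Nat.eq_of_mul_eq_mul_right Nat.card_pos (h5.trans h6.symm)
    rwa [h4]
  · intro x low R' hR' hne hx
    refine core S hF hR f (fun R h3 h4 => low R ?_ h4) hR' hne hx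
    rwa [hf] at h3

end coord

/-- the parameters of `²F₄(q)`, `q ≥ 8` -/
theorem exists_full {K : Type v} [Group K] [Finite K] (h : Iso2F4 K) :
    ∃ (F : Type) (_ : Field F) (_ : Finite F) (σ : F →+* F) (m : ℕ) (G : Type) (_ : Group G) (_ : Finite G)
      (S : Full σ G), Nat.card F = 2 ^ (2 * m + 1) ∧ (∃ c : Fˣ, c ≠ 1) ∧ S.R.p = 2 ∧ Nonempty (G ≃* K) := by
  obtain ⟨F, _, _, m, hm, hK, ⟨e⟩⟩ := h
  obtain ⟨φ, hφ⟩ := Cfsg.Agent.ChevalleyStructure.TwF4.TwistedFix.exists_rln hK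
  have := Cfsg.Agent.ChevalleyStructure.TwF4.Twisted.charP_two hK
  have hfin : Finite ↥(twistedF4 F (2 ^ m)) := inferInstance
  have hF : ∃ c : Fˣ, c ≠ 1 := by
    have h1 : 1 < Nat.card Fˣ := by
      rw [Nat.card_units, Nat.card_eq_fintype_card, hK]
      have : 2 ^ 3 ≤ 2 ^ (2 * m + 1) := Nat.pow_le_pow_right (by norm_num) (by omega)
      omega
    have h2 : Nontrivial Fˣ := Finite.one_lt_card_iff_nontrivial.1 h1
    exact exists_ne 1
  exact ⟨F, inferInstance, inferInstance, φ, m, ↥(twistedF4 F (2 ^ m)), inferInstance, hfin,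
    Cfsg.Agent.KFacts.TwF4.Inst.full hK hφ, by rw [Nat.card_eq_fintype_card, hK], hF, rfl, ⟨e.symm⟩⟩

section rows

variable {X : Type u} [Group X] [Finite X] {S T A : Subgroup X}

/-- `X = S`: the elements of `A` are inner on `S` -/
theorem AS.eq_top (h : AS S T A) (hS : Iso2F4 S) : S = ⊤ := by
  have hn := h.norm
  obtain ⟨F, _, _, σ, m, G, _, _, SS, hcard, hF, hR, ⟨e⟩⟩ := exists_full hS
  have hA : A ≤ S := by
    intro a ha
    obtain ⟨α, hα⟩ : ∃ α : MulAut S, α = MulAut.conjNormal a := ⟨_, rfl⟩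
    have h1 : α ^ 2 ^ 1 = 1 := by
      rw [hα, ← map_pow, pow_one, pow_two, h.el a ha, map_one]
    obtain ⟨β, hβ⟩ : ∃ β : MulAut G, β = MulAut.congr e.symm α := ⟨_, rfl⟩
    have h2 : β ^ 2 ^ 1 = 1 := by rw [hβ, ← map_pow, h1, map_one]
    obtain ⟨x, hx⟩ := Cfsg.Agent.KFacts.TwF4.OutTwo.inner SS hcard hF hR h2
    have h3 : ∀ s : S, (α s : S) = e x * s * (e x)⁻¹ := by
      intro s
      have h4 : β (e.symm s) = x * e.symm s * x⁻¹ := by rw [hx, MulAut.conj_apply]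
      have h5 : β (e.symm s) = e.symm (α s) := by
        rw [hβ]
        show e.symm (α (e.symm.symm (e.symm s))) = _
        rw [MulEquiv.symm_symm, MulEquiv.apply_symm_apply]
      rw [h5] at h4
      have h6 := congrArg e h4
      rwa [MulEquiv.apply_symm_apply, map_mul, map_mul, map_inv, MulEquiv.apply_symm_apply] at h6
    have h4 : ((e x : S) : X)⁻¹ * a ∈ centralizer (S : Set X) := by
      rw [mem_centralizer_iff]
      intro s hs
      have h5 := congrArg Subtype.val (h3 ⟨s, hs⟩)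
      rw [hα, MulAut.conjNormal_apply] at h5
      have h6 : a * s * a⁻¹ = (e x : S) * s * ((e x : S) : X)⁻¹ := h5
      have h7 : s = ((e x : S) : X)⁻¹ * (a * s * a⁻¹) * (e x : S) := by rw [h6]; group
      calc s * (((e x : S) : X)⁻¹ * a)
          = ((e x : S) : X)⁻¹ * (a * s * a⁻¹) * (e x : S) * (((e x : S) : X)⁻¹ * a) := by rw [← h7]
        _ = ((e x : S) : X)⁻¹ * a * s := by group
    rw [h.cen, mem_bot] at h4
    rw [← inv_mul_eq_one.1 h4]
    exact (e x).2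
  rw [← h.gen]
  exact (sup_eq_left.2 hA).symm

/-- **The row `²F₄(q)`, `q ≥ 8`.** -/
theorem AS.exists_opp (h : AS S T A) (hS : Iso2F4 S) : ∃ T' : Subgroup X, IsPGroup 2 T' ∧ ¬ 2 ∣ T'.index ∧
    ∀ R' : Subgroup X, T' ≤ R' → R' ≠ ⊤ → A ⊓ R' = ⊥ := by
  have h1 := AS.eq_top h hS
  have hsim := h.simple
  have e : S ≃* X := (MulEquiv.subgroupCongr h1).trans topEquiv
  obtain ⟨F, _, _, σ, m, G, _, _, SS, hcard, hF, hR, ⟨e'⟩⟩ := exists_full hS
  have : IsSimpleGroup G := e'.isSimpleGroup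
  obtain ⟨T', h2, h3, h4⟩ := exists_opp_full SS hF hR (e'.trans e) h.two h.syl
  refine ⟨T', h2, h3, fun R' h5 h6 => ?_⟩
  rw [eq_bot_iff]
  intro x hx
  exact mem_bot.2 (h4 x (fun R h7 h8 => h.low R h7 h8 hx.1) R' h5 h6 hx.2)

end rows

end Cfsg.Agent.Omega.ML.LieTwF4

end

section


/-!
# LEMMA GML: (ML) for a group `Z` of vectors (helper567)

`L` acts on the elementary abelian 2-group `V = ⟨Z^L⟩`, `T` is a Sylow 2-subgroup of `L` which centralises `Z`,
`A ≤ O₂(C_L(Z))` with `[V, a²] = 1` for `a ∈ A`.  Then `|A : C_A(V)| ≤ |V : C_V(A)|`.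

* `ZD L V Z T A` : the hypotheses;
* **`ZD.gml`** : the conclusion, from `MLK` (vectors only).

No condition on `C_L(z)`, `z ∈ Z`: the induction goes through `C_L(z)` acting on `⟨Z^{C_L(z)}⟩` and through
`C_L(⟨z^L⟩)` acting on `V`.
-/

set_option autoImplicit false

namespace Cfsg.Agent.Omega.ML.GMod

open Subgroup Cfsg Cfsg.Agent.ZN Cfsg.Agent.ZN.ChoiceBase Cfsg.Agent.Omega.ML.Final
open Cfsg.Agent.MinSimple.VModule (o2_isPGroup o2_le le_o2 le_normalizer_o2 o2_le_of_sylow)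

universe u

variable {G : Type u} [Group G]

/-! ### Tools -/

/-- `⟨Z^L⟩` -/
def hul (Z L : Subgroup G) : Subgroup G := ⨆ g : L, cj (g : G) Z

theorem cj_le_hul {Z L : Subgroup G} {g : G} (hg : g ∈ L) : cj g Z ≤ hul Z L :=
  le_iSup (fun g : L => cj (g : G) Z) ⟨g, hg⟩

theorem le_hul (Z L : Subgroup G) : Z ≤ hul Z L := by
  have h1 := cj_le_hul (Z := Z) (L.one_mem)
  rwa [cj_one] at h1

theorem hul_le {Z L A : Subgroup G} (h : ∀ g ∈ L, cj g Z ≤ A) : hul Z L ≤ A := iSup_le fun g => h g g.2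

theorem hul_le_of {Z L A : Subgroup G} (hZ : Z ≤ A) (hL : L ≤ normalizer (A : Set G)) : hul Z L ≤ A :=
  hul_le fun g hg => (cj_mono g hZ).trans (cj_eq_of_mem_normalizer (hL hg)).le

theorem cj_hul {Z L : Subgroup G} {g : G} (hg : g ∈ L) : cj g (hul Z L) = hul Z L := by
  have key : ∀ g ∈ L, cj g (hul Z L) ≤ hul Z L := by
    intro g hg
    unfold hul
    rw [cj, Subgroup.map_iSup]
    refine iSup_le fun q => ?_
    have h1 : cj g (cj (q : G) Z) ≤ hul Z L := by
      rw [cj_cj]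
      exact cj_le_hul (L.mul_mem hg q.2)
    exact h1
  apply le_antisymm (key g hg)
  have h1 := cj_mono g (key g⁻¹ (L.inv_mem hg))
  rwa [cj_cj_inv] at h1

theorem le_normalizer_hul (Z L : Subgroup G) : L ≤ normalizer (hul Z L : Set G) := fun _ hg =>
  mem_normalizer_iff_cj.2 (cj_hul hg)

theorem nc (H : Subgroup G) : normalizer (H : Set G) ≤ normalizer (centralizer (H : Set G) : Set G) := by
  intro g hg
  rw [mem_normalizer_iff_cj, cj_centralizer, mem_normalizer_iff_cj.1 hg]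

/-- The Frattini argument, elementwise. -/
theorem exists_frattini [Finite G] {X L T : Subgroup G} (hTX : T ≤ X) (hT : IsPGroup 2 T)
    (hTs : ¬ 2 ∣ T.relIndex X) (hL : X ≤ normalizer (L : Set G)) {x : G} (hx : x ∈ X) :
    ∃ l ∈ L, ∃ n ∈ X ⊓ normalizer ((T ⊓ L : Subgroup G) : Set G), x = l * n := by
  have h1 := Cfsg.Agent.MinSimple.Basic.frattini hTX hT hTs hL hx
  have h2 : x ∈ ((L ⊔ (X ⊓ normalizer ((T ⊓ L : Subgroup G) : Set G)) : Subgroup G) : Set G) := h1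
  rw [coe_mul_of_right_le_normalizer_left _ _ (inf_le_left.trans hL)] at h2
  obtain ⟨a, ha, b, hb, hab⟩ := h2
  exact ⟨a, ha, b, hb, hab.symm⟩

theorem normalizer_le_normalizer_o2 (L : Subgroup G) :
    normalizer (L : Set G) ≤ normalizer (o2 L : Set G) := by
  intro g hg
  have key : ∀ g ∈ normalizer (L : Set G), cj g (o2 L) ≤ o2 L := by
    intro g hg
    refine le_o2 ?_ (isPGroup_cj g (o2_isPGroup L)) ?_
    · exact (cj_mono g (o2_le L)).trans (cj_eq_of_mem_normalizer hg).le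
    · rw [← cj_normalizer]
      exact (cj_eq_of_mem_normalizer hg).ge.trans (cj_mono g (le_normalizer_o2 L))
  rw [mem_normalizer_iff_cj]
  refine le_antisymm (key g hg) ?_
  have h1 := cj_mono g (key g⁻¹ (inv_mem hg))
  rwa [cj_cj_inv] at h1

theorem not_dvd_of_le {X T N : Subgroup G} (hTs : ¬ 2 ∣ T.relIndex X) (hTN : T ≤ N)
    (hNX : N ≤ X) : ¬ 2 ∣ T.relIndex N :=
  fun h => hTs (h.trans (Dvd.intro _ (relIndex_mul_relIndex T N X hTN hNX)))

theorem not_dvd_inf [Finite G] {H T N : Subgroup G} (hTH : T ≤ H) (hTS : ¬ 2 ∣ T.relIndex H)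
    (hNH : N ≤ H) (hN : H ≤ normalizer (N : Set G)) : ¬ 2 ∣ (N ⊓ T).relIndex N := by
  have hn : (N.subgroupOf H).Normal := normal_subgroupOf_of_le_normalizer hN
  have h1 : N.relIndex (N ⊔ T) = N.relIndex T := by
    have h := Subgroup.relIndex_sup_left (K := N.subgroupOf H) (H := T.subgroupOf H)
    rw [← Subgroup.subgroupOf_sup hNH hTH, Subgroup.relIndex_subgroupOf (sup_le hNH hTH),
      Subgroup.relIndex_subgroupOf hTH] at h
    exact h
  have h2 := Subgroup.relIndex_mul_relIndex (N ⊓ T) N (N ⊔ T) inf_le_left le_sup_left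
  have h3 := Subgroup.relIndex_mul_relIndex (N ⊓ T) T (N ⊔ T) inf_le_right le_sup_right
  have h4 : (N ⊓ T).relIndex T = N.relIndex T := Subgroup.inf_relIndex_right N T
  rw [h1] at h2
  rw [h4, ← h2, mul_comm] at h3
  have h5 : T.relIndex (N ⊔ T) = (N ⊓ T).relIndex N :=
    Nat.eq_of_mul_eq_mul_right (Nat.pos_of_ne_zero (Subgroup.index_ne_zero_of_finite
      (H := N.subgroupOf T))) h3
  intro h
  have h6 := Subgroup.relIndex_mul_relIndex T (N ⊔ T) H le_sup_right (sup_le hNH hTH)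
  exact hTS (h6 ▸ (h5 ▸ h : 2 ∣ T.relIndex (N ⊔ T)).mul_right _)

theorem ri_ne [Finite G] (A B : Subgroup G) : A.relIndex B ≠ 0 :=
  Subgroup.index_ne_zero_of_finite (H := A.subgroupOf B)

theorem ri_mono [Finite G] (K : Subgroup G) {U W : Subgroup G} (h : U ≤ W) : K.relIndex U ≤ K.relIndex W :=
  relIndex_le_of_le_right h (ri_ne _ _)

/-- two steps: `|A : C_A(V)| ≤ |V : C_V(A)|` from the same for `A₀ = C_A(U)` on `V` and for `A` on `U ≤ V` -/
theorem step [Finite G] {V U A : Subgroup G} (hUV : U ≤ V)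
    (h1 : (centralizer (U : Set G)).relIndex A ≤ (centralizer (A : Set G)).relIndex U)
    (h2 : (centralizer (V : Set G)).relIndex (A ⊓ centralizer (U : Set G) : Subgroup G) ≤
      (centralizer ((A ⊓ centralizer (U : Set G) : Subgroup G) : Set G)).relIndex V) :
    (centralizer (V : Set G)).relIndex A ≤ (centralizer (A : Set G)).relIndex V := by
  set A₀ : Subgroup G := A ⊓ centralizer (U : Set G) with hA₀
  have hA₀A : A₀ ≤ A := inf_le_left
  have e1 : (centralizer (V : Set G)).relIndex A = (centralizer (V : Set G)).relIndex A₀ * A₀.relIndex A := by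
    have h3 : A ⊓ centralizer (V : Set G) ≤ A₀ := inf_le_inf_left _ (centralizer_le hUV)
    have h4 := relIndex_mul_relIndex (A ⊓ centralizer (V : Set G)) A₀ A h3 hA₀A
    rw [inf_relIndex_left A (centralizer (V : Set G))] at h4
    rw [← h4]
    congr 1
    have h5 : A₀ ⊓ (A ⊓ centralizer (V : Set G)) = A₀ ⊓ centralizer (V : Set G) := by
      rw [← inf_assoc, inf_eq_left.2 hA₀A]
    rw [← inf_relIndex_left A₀ (A ⊓ centralizer (V : Set G)), h5, inf_relIndex_left]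
  have e2 : A₀.relIndex A = (centralizer (U : Set G)).relIndex A := inf_relIndex_left _ _
  set D : Subgroup G := V ⊓ centralizer (A₀ : Set G) with hD
  have hUD : U ≤ D := by
    refine le_inf hUV ?_
    rw [← le_centralizer_iff]
    exact inf_le_right
  have e3 : (centralizer (A : Set G)).relIndex V =
      (centralizer (A : Set G)).relIndex D * (centralizer (A₀ : Set G)).relIndex V := by
    have h3 : V ⊓ centralizer (A : Set G) ≤ D := inf_le_inf_left _ (centralizer_le hA₀A)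
    have h4 := relIndex_mul_relIndex (V ⊓ centralizer (A : Set G)) D V h3 inf_le_left
    rw [inf_relIndex_left V (centralizer (A : Set G))] at h4
    rw [← h4]
    congr 1
    · have h5 : D ⊓ (V ⊓ centralizer (A : Set G)) = D ⊓ centralizer (A : Set G) := by
        rw [← inf_assoc, inf_eq_left.2 (inf_le_left : D ≤ V)]
      rw [← inf_relIndex_left D (V ⊓ centralizer (A : Set G)), h5, inf_relIndex_left]
    · rw [hD, inf_relIndex_left]
  rw [e1, e2, e3, mul_comm]
  exact Nat.mul_le_mul (h1.trans (ri_mono _ hUD)) h2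

theorem kg_le [Finite G] {H L : Subgroup G} (hK : IsKGroup L) (h : H ≤ L) : IsKGroup H :=
  kgroup_of_surj hK (H.subgroupOf L) (subgroupOfEquivOfLe h).toMonoidHom (subgroupOfEquivOfLe h).surjective

/-! ### The lemma -/

/-- The hypotheses of LEMMA GML. -/
structure ZD (L V Z T A : Subgroup G) : Prop where
  nV : L ≤ normalizer (V : Set G)
  sq : ∀ v ∈ V, v * v = 1
  ZV : Z ≤ V
  /-- `V = ⟨Z^L⟩` -/
  gen : ∀ U : Subgroup G, Z ≤ U → L ≤ normalizer (U : Set G) → V ≤ U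
  TL : T ≤ L
  two : IsPGroup 2 T
  odd : ¬ 2 ∣ T.relIndex L
  TZ : T ≤ centralizer (Z : Set G)
  AO : A ≤ o2 (L ⊓ centralizer (Z : Set G))
  Asq : ∀ a ∈ A, a * a ∈ centralizer (V : Set G)

theorem ZD.gml_aux [Finite G] (h : MLK.{u, u}) : ∀ n : ℕ, ∀ L V Z T A : Subgroup G, Nat.card L = n → IsKGroup L →
    ZD L V Z T A → (centralizer (V : Set G)).relIndex A ≤ (centralizer (A : Set G)).relIndex V := by
  intro n
  induction n using Nat.strong_induction_on with
  | _ n ih =>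
    intro L V Z T A hn hK D
    have hAC : A ≤ centralizer (Z : Set G) := D.AO.trans ((o2_le _).trans inf_le_right)
    have hAL : A ≤ L := D.AO.trans ((o2_le _).trans inf_le_left)
    by_cases hc : L ≤ centralizer (Z : Set G)
    · -- `L` centralises `Z`
      have hV : V ≤ Z := by
        refine D.gen Z le_rfl fun g hg => ?_
        rw [mem_normalizer_iff_cj]
        ext x
        rw [mem_cj]
        have key : ∀ g ∈ L, ∀ x ∈ Z, g⁻¹ * x * g = x := by
          intro g hg x hx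
          rw [mul_assoc, mem_centralizer_iff.1 (hc hg) x hx]
          group
        constructor
        · intro hx
          have h1 := key g⁻¹ (L.inv_mem hg) _ hx
          have h2 : g⁻¹⁻¹ * (g⁻¹ * x * g) * g⁻¹ = x := by group
          rw [h2] at h1
          rw [h1]
          exact hx
        · intro hx
          rw [key g hg x hx]
          exact hx
      have h1 : A ≤ centralizer (V : Set G) := hAC.trans (centralizer_le hV)
      rw [relIndex_eq_one.2 h1]
      exact Nat.one_le_iff_ne_zero.2 (ri_ne _ _)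
    · obtain ⟨z, hz, hzL⟩ : ∃ z ∈ Z, ¬ L ≤ centralizer ({z} : Set G) := by
        by_contra hcon
        push Not at hcon
        refine hc fun g hg => mem_centralizer_iff.2 fun z hz => ?_
        exact mem_centralizer_iff.1 (hcon z hz hg) z (Set.mem_singleton z)
      set H : Subgroup G := L ⊓ centralizer ({z} : Set G) with hH
      have hHL : H ≤ L := inf_le_left
      have hne : H ≠ L := fun he => hzL (he ▸ inf_le_right)
      have hlt : ∀ {R : Subgroup G}, R ≤ H → Nat.card R < n := by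
        intro R hR
        rw [← hn]
        refine lt_of_le_of_lt (card_le_of_le hR) (lt_of_le_of_ne (card_le_of_le hHL) fun he => hne ?_)
        exact eq_of_le_of_card_ge hHL he.ge
      have hCz : centralizer (Z : Set G) ≤ centralizer ({z} : Set G) :=
        centralizer_le (Set.singleton_subset_iff.2 hz)
      have hTH : T ≤ H := le_inf D.TL (D.TZ.trans hCz)
      have hHC : H ⊓ centralizer (Z : Set G) = L ⊓ centralizer (Z : Set G) := by
        rw [hH, inf_assoc, inf_eq_right.2 hCz]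
      -- (a)
      set Vz : Subgroup G := hul Z H with hVz
      have hVzV : Vz ≤ V := hul_le_of D.ZV (hHL.trans D.nV)
      have D1 : ZD H Vz Z T A :=
        { nV := le_normalizer_hul Z H
          sq := fun v hv => D.sq v (hVzV hv)
          ZV := le_hul Z H
          gen := fun U hZ hU => hul_le_of hZ hU
          TL := hTH
          two := D.two
          odd := not_dvd_of_le D.odd hTH hHL
          TZ := D.TZ
          AO := hHC ▸ D.AO
          Asq := fun a ha => centralizer_le hVzV (D.Asq a ha) }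
      have h1 := ih _ (hlt le_rfl) H Vz Z T A rfl (kg_le hK hHL) D1
      refine step hVzV h1 ?_
      set A₀ : Subgroup G := A ⊓ centralizer (Vz : Set G) with hA₀
      -- (b)
      have hA₀H : A₀ ≤ o2 H := by
        have h2 : o2 (L ⊓ centralizer (Z : Set G)) ⊓ centralizer (Vz : Set G) ≤ o2 (H ⊓ centralizer (Vz : Set G)) := by
          refine le_o2 (le_inf ?_ inf_le_right) ((o2_isPGroup _).to_le inf_le_left) ?_
          · rw [← hHC]
            exact inf_le_left.trans ((o2_le _).trans inf_le_left)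
          · refine le_trans (le_inf ?_ ?_) inf_normalizer_le_normalizer_inf
            · refine le_trans ?_ (le_normalizer_o2 _)
              exact le_inf (inf_le_left.trans hHL) (inf_le_right.trans (centralizer_le (le_hul Z H)))
            · exact inf_le_right.trans Subgroup.le_normalizer
        have h3 : H ≤ normalizer ((H ⊓ centralizer (Vz : Set G) : Subgroup G) : Set G) :=
          le_trans (le_inf Subgroup.le_normalizer ((le_normalizer_hul Z H).trans (nc _)))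
            inf_normalizer_le_normalizer_inf
        have h4 : o2 (H ⊓ centralizer (Vz : Set G)) ≤ o2 H :=
          le_o2 ((o2_le _).trans inf_le_left) (o2_isPGroup _) (h3.trans (normalizer_le_normalizer_o2 _))
        exact (inf_le_inf_right _ D.AO).trans (h2.trans h4)
      set U : Subgroup G := hul (zpowers z) L with hU
      have hzU : z ∈ U := le_hul _ _ (mem_zpowers z)
      have hUV : U ≤ V := hul_le_of (by rw [zpowers_le]; exact D.ZV hz) D.nV
      have hLU : L ≤ normalizer (U : Set G) := le_normalizer_hul _ _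
      have D2 : GDat L U ⊥ T (o2 H) A₀ z :=
        { nW := hLU
          nY := by rw [normalizer_eq_top]; exact le_top
          YW := bot_le
          WY := by rw [normalizer_eq_top]; exact le_top
          sq := fun x hx => mem_bot.2 (D.sq x (hUV hx))
          mem := hzU
          gen := fun U' hz' _ hU' => hul_le_of (by rw [zpowers_le]; exact hz') hU'
          TC := D.TL
          two := D.two
          odd := D.odd
          fixT := by
            intro t ht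
            rw [mem_bot, mul_inv_eq_one, ← mem_centralizer_iff.1 (D.TZ ht) z hz]
            group
          QC := (o2_le H).trans hHL
          Q2 := o2_isPGroup H
          fixQ := by
            intro q hq
            have h5 : q ∈ centralizer ({z} : Set G) := ((o2_le H).trans inf_le_right) hq
            rw [mem_bot, mul_inv_eq_one, ← mem_centralizer_iff.1 h5 z (Set.mem_singleton z)]
            group
          nrmQ := by
            intro g hg hgz q hq
            have h5 : g ∈ H := by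
              refine ⟨hg, mem_centralizer_iff.2 fun y hy => ?_⟩
              rw [Set.mem_singleton_iff.1 hy]
              have h6 : g * z * g⁻¹ = z := by rwa [mem_bot, mul_inv_eq_one] at hgz
              exact (mul_inv_eq_iff_eq_mul.1 h6).symm
            exact (mem_normalizer_iff.1 (le_normalizer_o2 H h5) q).1 hq
          AQ := hA₀H
          Asq := by
            intro a ha x hx
            have h5 := mem_centralizer_iff.1 (D.Asq a ha.1) x (hUV hx)
            have h6 : a * (a * x * a⁻¹) * a⁻¹ * x⁻¹ = (a * a) * x * (a * a)⁻¹ * x⁻¹ := by group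
            rw [h6, mem_bot, ← h5]
            group }
      have h2 : (A₀ ⊓ centralizer (U : Set G)).relIndex A₀ ≤ (U ⊓ centralizer (A₀ : Set G)).relIndex U := by
        refine h.grp hK D2 (fun a => ?_) fun x => ?_
        · rw [mem_inf, mem_centralizer_iff]
          refine and_congr_right fun _ => forall₂_congr fun x _ => ?_
          rw [mem_bot, mul_inv_eq_one, mul_inv_eq_iff_eq_mul]
          exact eq_comm
        · rw [mem_inf, mem_centralizer_iff]
          refine and_congr_right fun _ => forall₂_congr fun a _ => ?_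
          rw [mem_bot, mul_inv_eq_one, mul_inv_eq_iff_eq_mul]
      rw [inf_relIndex_left, inf_relIndex_left] at h2
      refine step hUV h2 ?_
      set A₁ : Subgroup G := A₀ ⊓ centralizer (U : Set G) with hA₁
      -- (c)
      set H₁ : Subgroup G := L ⊓ centralizer (U : Set G) with hH₁
      have hH₁H : H₁ ≤ H := inf_le_inf_left _ (centralizer_le (Set.singleton_subset_iff.2 hzU))
      have hH₁L : H₁ ≤ L := inf_le_left
      have hLH₁ : L ≤ normalizer (H₁ : Set G) :=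
        le_trans (le_inf Subgroup.le_normalizer (hLU.trans (nc _))) inf_normalizer_le_normalizer_inf
      set T₁ : Subgroup G := T ⊓ H₁ with hT₁
      set N : Subgroup G := L ⊓ normalizer (T₁ : Set G) with hN
      set Z₁ : Subgroup G := hul Z N with hZ₁
      have hZ₁V : Z₁ ≤ V := hul_le_of D.ZV (inf_le_left.trans D.nV)
      have hT₁Z : T₁ ≤ centralizer (Z₁ : Set G) := by
        rw [le_centralizer_iff]
        refine hul_le fun g hg => ?_
        rw [← le_centralizer_iff, ← cj_centralizer, ← cj_eq_of_mem_normalizer hg.2]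
        exact cj_mono g (inf_le_left.trans D.TZ)
      have hA₁A : A₁ ≤ A := inf_le_left.trans inf_le_left
      have hA₁T : A₁ ≤ T₁ := by
        refine le_inf (hA₁A.trans (D.AO.trans ?_)) (le_inf (hA₁A.trans hAL) inf_le_right)
        exact o2_le_of_sylow D.two (not_dvd_of_le D.odd (le_inf D.TL D.TZ) inf_le_left)
      have D3 : ZD H₁ V Z₁ T₁ A₁ :=
        { nV := hH₁L.trans D.nV
          sq := D.sq
          ZV := hZ₁V
          gen := by
            intro U' hZU hU'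
            refine (D.gen (hul Z L) (le_hul Z L) (le_normalizer_hul Z L)).trans (hul_le fun g hg => ?_)
            obtain ⟨l, hl, m, hm, rfl⟩ := exists_frattini D.TL D.two D.odd hLH₁ hg
            rw [← cj_cj]
            refine (cj_mono l ((cj_le_hul hm).trans hZU)).trans ?_
            exact (cj_eq_of_mem_normalizer (hU' hl)).le
          TL := inf_le_right
          two := D.two.to_le inf_le_left
          odd := by
            rw [hT₁, inf_comm]
            exact not_dvd_inf D.TL D.odd hH₁L hLH₁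
          TZ := hT₁Z
          AO := by
            have h5 : H₁ ⊓ centralizer (Z₁ : Set G) ≤ L ⊓ centralizer (Z : Set G) :=
              inf_le_inf hH₁L (centralizer_le (le_hul Z N))
            have h6 : o2 (L ⊓ centralizer (Z : Set G)) ⊓ (H₁ ⊓ centralizer (Z₁ : Set G)) ≤
                o2 (H₁ ⊓ centralizer (Z₁ : Set G)) := by
              refine le_o2 inf_le_right ((o2_isPGroup _).to_le inf_le_left) ?_
              exact le_trans (le_inf (h5.trans (le_normalizer_o2 _)) Subgroup.le_normalizer)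
                inf_normalizer_le_normalizer_inf
            refine le_trans (le_inf (hA₁A.trans D.AO) (le_inf (hA₁T.trans inf_le_right) ?_)) h6
            exact hA₁T.trans hT₁Z
          Asq := fun a ha => D.Asq a (hA₁A ha) }
      exact ih _ (hlt hH₁H) H₁ V Z₁ T₁ A₁ rfl (kg_le hK hH₁L) D3

/-- **LEMMA GML.** -/
theorem ZD.gml [Finite G] {L V Z T A : Subgroup G} (D : ZD L V Z T A) (h : MLK.{u, u}) (hK : IsKGroup L) :
    (centralizer (V : Set G)).relIndex A ≤ (centralizer (A : Set G)).relIndex V :=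
  ZD.gml_aux h _ L V Z T A rfl hK D

end Cfsg.Agent.Omega.ML.GMod

end

section


/-!
# LEMMA GML, corollaries for `NN(S)` (helper567; helper133 bb OMEGA #23967 (5))

* `le_o2_of_gml` : `V ≤ S` without offender in `S`, `V ≤ O₂(C_G(Z))`, `C_G(Z) ≤ L ∈ L(S)` ⟹ `V ≤ O₂(L)`;
* **`NN.le_o2`** : the same for `V ∈ NN(S)`;  `NN.cent_zl` : `V` centralises `⟨Z^L⟩`;
* `NN.hul_le_o2`, `NN.hul_comm` : `⟨V^L⟩ ≤ O₂(L)`, and `⟨Z^L⟩` centralises `⟨V^L⟩`.
-/

set_option autoImplicit false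

namespace Cfsg.Agent.Omega.ML.GNN

open Subgroup Cfsg Cfsg.Agent.ZN Cfsg.Agent.ZN.ChoiceBase Cfsg.Agent.Omega.ML.Final
open Cfsg.Agent.Omega.MinPar Cfsg.Agent.Omega.Frame Cfsg.Agent.Omega.FrameNOFF Cfsg.Agent.Omega.FFThm
open Cfsg.Agent.Omega.NO3b.Bang Cfsg.Agent.Omega.ML.GMod
open Cfsg.Agent.MinSimple.VModule hiding mem_zc
open Cfsg.Agent.MinSimple.Basic (not_dvd_relIndex)

universe u

variable {G : Type u} [Group G]

/-- the hypotheses of LEMMA GML for `⟨Z^L⟩` and an elementary abelian `A ≤ O₂(C_G(Z))`, `C_G(Z) ≤ L` -/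
theorem zd_of [Finite G] {S : Sylow 2 G} (hG : IsCharacteristicTwoType G) {L A : Subgroup G}
    (hL : IsLoc (S : Subgroup G) L) (hC : CZ (S : Subgroup G) ≤ L) (hA : A ≤ o2 (CZ (S : Subgroup G)))
    (hsq : ∀ a ∈ A, a ^ 2 = 1) :
    ZD L (zl (S : Subgroup G) L) (zc (S : Subgroup G)) (S : Subgroup G) A where
  nV := le_normalizer_zl _ _
  sq := fun v hv => by
    have := zc_sq _ _ (hL.zl_le S hG hv)
    rwa [sq] at this
  ZV := zc_le_zl _ _
  gen := fun U hZ hLU => zl_le hZ hLU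
  TL := hL.le
  two := S.isPGroup'
  odd := not_dvd_relIndex S hL.le
  TZ := le_centralizer_zc _
  AO := by
    rwa [inf_eq_right.2 hC]
  Asq := fun a ha => by
    have := hsq a ha
    rw [← sq, this]
    exact one_mem _

theorem card_mul {A B : Subgroup G} (h : A ≤ B) : Nat.card A * A.relIndex B = Nat.card B := by
  have := relIndex_mul_relIndex (⊥ : Subgroup G) A B bot_le h
  rwa [relIndex_bot_left, relIndex_bot_left] at this

/-- `V` centralises `⟨Z^L⟩` -/
theorem cent_zl_of [Finite G] (h : MLK.{u, u}) {S : Sylow 2 G} (hG : _root_.Cfsg.Agent.Omega.Frame.Ctx G) {L V : Subgroup G}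
    (hL : IsLoc (S : Subgroup G) L) (hK : IsKGroup L) (hC : CZ (S : Subgroup G) ≤ L)
    (hVQ : V ≤ o2 (CZ (S : Subgroup G))) (hsq : ∀ v ∈ V, v ^ 2 = 1)
    (hn : zl (S : Subgroup G) L ≤ normalizer (V : Set G))
    (hnff : ∀ A : Subgroup G, A ≤ (S : Subgroup G) → ¬ OffM V A) :
    V ≤ centralizer (zl (S : Subgroup G) L : Set G) := by
  by_contra hne
  set U : Subgroup G := zl (S : Subgroup G) L with hU
  have hU2 : U ≤ zc (o2 L) := hL.zl_le S hG.char2
  have hUS : U ≤ (S : Subgroup G) := (hU2.trans (zc_le _)).trans (hL.o2_le S)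
  have h1 := (zd_of hG.char2 hL hC hVQ hsq).gml h hK
  rw [← hU] at h1
  refine hnff U hUS ⟨⟨?_, ?_⟩, fun hc => hne (cent_symm hc), ?_⟩
  · intro a ha
    rw [zc_sq _ _ (hU2 ha)]
    exact one_mem _
  · intro a ha b hb
    rw [zc_comm _ _ (hU2 ha) _ (hU2 hb), mul_inv_cancel_right, mul_inv_cancel]
    exact one_mem _
  · have e1 : Nat.card ↥(V ⊓ centralizer (U : Set G)) * (centralizer (U : Set G)).relIndex V = Nat.card V := by
      rw [← inf_relIndex_left]
      exact card_mul inf_le_left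
    have e2 : Nat.card ↥(U ⊓ centralizer (V : Set G)) * (centralizer (V : Set G)).relIndex U = Nat.card U := by
      rw [← inf_relIndex_left]
      exact card_mul inf_le_left
    rw [← e1, ← e2]
    calc Nat.card ↥(V ⊓ centralizer (U : Set G)) * (centralizer (U : Set G)).relIndex V *
          Nat.card ↥(U ⊓ centralizer (V : Set G))
        ≤ Nat.card ↥(V ⊓ centralizer (U : Set G)) * (centralizer (V : Set G)).relIndex U *
          Nat.card ↥(U ⊓ centralizer (V : Set G)) := by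
          exact Nat.mul_le_mul_right _ (Nat.mul_le_mul_left _ h1)
      _ = _ := by ring

/-- **`V ≤ S` without offender, `V ≤ O₂(C_G(Z))` implies `V ≤ O₂(L)` for every local `L ≥ C_G(Z)`.** -/
theorem le_o2_of_gml [Finite G] (h : MLK.{u, u}) {S : Sylow 2 G} (hG : _root_.Cfsg.Agent.Omega.Frame.Ctx G) {L V : Subgroup G}
    (hL : IsLoc (S : Subgroup G) L) (hK : IsKGroup L) (hC : CZ (S : Subgroup G) ≤ L)
    (hVQ : V ≤ o2 (CZ (S : Subgroup G))) (hsq : ∀ v ∈ V, v ^ 2 = 1)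
    (hn : zl (S : Subgroup G) L ≤ normalizer (V : Set G))
    (hnff : ∀ A : Subgroup G, A ≤ (S : Subgroup G) → ¬ OffM V A) : V ≤ o2 L := by
  have h1 := cent_zl_of h hG hL hK hC hVQ hsq hn hnff
  set U : Subgroup G := zl (S : Subgroup G) L with hU
  have hC1 : L ⊓ centralizer (U : Set G) ≤ CZ (S : Subgroup G) :=
    inf_le_right.trans (centralizer_le (zc_le_zl _ _))
  have hnC : L ≤ normalizer ((L ⊓ centralizer (U : Set G) : Subgroup G) : Set G) :=
    le_trans (le_inf Subgroup.le_normalizer ((le_normalizer_zl _ _).trans (nc U)))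
      inf_normalizer_le_normalizer_inf
  -- `O₂(C) ∩ C_L(U)` is a normal 2-subgroup of `C_L(U)`
  have h2 : o2 (CZ (S : Subgroup G)) ⊓ (L ⊓ centralizer (U : Set G)) ≤ o2 (L ⊓ centralizer (U : Set G)) := by
    refine le_o2 inf_le_right ((o2_isPGroup _).to_le inf_le_left) ?_
    exact le_trans (le_inf (hC1.trans (le_normalizer_o2 _)) Subgroup.le_normalizer)
      inf_normalizer_le_normalizer_inf
  have h3 : o2 (L ⊓ centralizer (U : Set G)) ≤ o2 L :=
    le_o2 ((o2_le _).trans inf_le_left) (o2_isPGroup _)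
      (hnC.trans (normalizer_le_normalizer_o2 _))
  have hQL : o2 (CZ (S : Subgroup G)) ≤ L := (o2_le _).trans hC
  exact (le_inf hVQ (le_inf (hVQ.trans hQL) h1)).trans (h2.trans h3)

section NN

variable [Finite G] {S : Sylow 2 G} {L V : Subgroup G}

/-- `V ∈ NN(S)`, `V ≤ O₂(C_G(Z))` centralises `⟨Z^L⟩` for every local `L ≥ C_G(Z)`. -/
theorem NN.cent_zl (hV : NN (S : Subgroup G) V) (h : MLK.{u, u}) (hG : _root_.Cfsg.Agent.Omega.Frame.Ctx G) (hL : IsLoc (S : Subgroup G) L)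
    (hK : IsKGroup L) (hC : CZ (S : Subgroup G) ≤ L) (hVQ : V ≤ o2 (CZ (S : Subgroup G))) :
    V ≤ centralizer (zl (S : Subgroup G) L : Set G) :=
  cent_zl_of h hG hL hK hC hVQ hV.sq
    ((((hL.zl_le S hG.char2).trans (zc_le _)).trans (hL.o2_le S)).trans hV.norm) hV.nff

/-- **`V ∈ NN(S)`, `V ≤ O₂(C_G(Z))` implies `V ≤ O₂(L)` for every local `L ≥ C_G(Z)`.** -/
theorem NN.le_o2 (hV : NN (S : Subgroup G) V) (h : MLK.{u, u}) (hG : _root_.Cfsg.Agent.Omega.Frame.Ctx G) (hL : IsLoc (S : Subgroup G) L)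
    (hK : IsKGroup L) (hC : CZ (S : Subgroup G) ≤ L) (hVQ : V ≤ o2 (CZ (S : Subgroup G))) : V ≤ o2 L :=
  le_o2_of_gml h hG hL hK hC hVQ hV.sq
    ((((hL.zl_le S hG.char2).trans (zc_le _)).trans (hL.o2_le S)).trans hV.norm) hV.nff

end NN

/-- a local subgroup is a `K`-group -/
theorem kgroup_of_isLoc [Finite G] {S : Sylow 2 G} (hG : _root_.Cfsg.Agent.Omega.Frame.Ctx G) (h2 : ¬ IsPGroup 2 G) {L : Subgroup G}
    (hL : IsLoc (S : Subgroup G) L) : IsKGroup L :=
  haveI := hG.simple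
  hG.kproper L (hL.ne_top S h2)

end Cfsg.Agent.Omega.ML.GNN

end

section


/-!
# (ML), K-side, groups with a root group datum: opposite subgroups (OMEGA; helper949)

`Y` a finite group with a root group datum of characteristic `p` and trivial centre, generated by the root groups,
`Inn Y ≤ 𝔾 ≤ Aut Y`, `D` a `p`-subgroup with `𝔾 = Inn(Y) D` and `Inn(U) ≤ D`; `A ≤ D` lies in a normal `p`-subgroup of
every proper overgroup of `D` in `𝔾`.

* `kopp` : either the proper overgroups of `D` are in one proper subgroup, or there is a `p`-subgroup `D'` of `𝔾` such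
  that `A ⊓ R' = ⊥` for all proper overgroups `R'` of `D'` in `𝔾`.
-/

set_option autoImplicit false
set_option linter.unusedSectionVars false

namespace Cfsg.Agent.Omega.ML.LieRgd

open Subgroup CoxeterSystem Cfsg.Agent.ChevalleyStructure.CoxeterGeom Cfsg.Agent.Tits.Roots Cfsg.Agent.Tits.Core
  Cfsg.Agent.Tits.Exchange Cfsg.Agent.Nodes.Reps Cfsg.Agent.Nodes.BNOf Cfsg.Agent.Nodes.StabComb
  Cfsg.Agent.Nodes.Bruhat Cfsg.Agent.Nodes.OppDec Cfsg.Agent.Nodes.LeviDec Cfsg.Agent.Nodes.NormalForm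
  Cfsg.Agent.KFacts.RgdOpp Cfsg.Agent.KFacts.RgdAut Cfsg.Agent.KFacts.RgdDiag Cfsg.Agent.KFacts.RgdRigid
  Cfsg.Agent.KFacts.RgdVJ Cfsg.Agent.KFacts.RgdSyl

variable {I W Y : Type*} [Fintype I] [DecidableEq I] [Group W] [Group Y] {M : CoxeterMatrix I}
  {cs : CoxeterSystem M W} {A : I → I → ℤ} {h : IsCartan M A} {p : ℕ} {T : Subgroup Y} {n : I → Y}
  {X : (I → ℤ) → Subgroup Y}

set_option maxHeartbeats 400000

/-- the automorphisms of `D` fixing `U` and `U⁻` -/
def Phi (cs : CoxeterSystem M W) (h : IsCartan M A) (X : (I → ℤ) → Subgroup Y) (D : Subgroup (MulAut Y)) :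
    Subgroup (MulAut Y) := D ⊓ Frame cs h X

/-- `J` is invariant under `Phi` -/
def Inv (cs : CoxeterSystem M W) (h : IsCartan M A) (T : Subgroup Y) (X : (I → ℤ) → Subgroup Y)
    (D : Subgroup (MulAut Y)) (J : Set I) : Prop := ∀ φ ∈ Phi cs h X D, _root_.Cfsg.Agent.KFacts.RgdAut.Fix φ (PJ cs h T X J)

section main

variable [Finite Y] [hp : Fact p.Prime] [Finite W] (R : RGD cs h p T n X)
  (hG1 : RGD.Sup X {x | IsRoot cs h x} = ⊤) (hZ : center Y = ⊥) {D : Subgroup (MulAut Y)} (hD : IsPGroup p D)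
  (hU : ∀ u ∈ RGD.Sup X (RGD.Pos cs h), MulAut.conj u ∈ D)

include R hG1 hZ hD hU hp

omit hD hU hZ hp in
theorem Phi.exists_diag {φ : MulAut Y} (hφ : φ ∈ Phi cs h X D) : ∃ σ : Equiv.Perm I, Diag T X φ σ :=
  Cfsg.Agent.KFacts.RgdDiag.exists_diag R (GG_eq_top hG1) hφ.2.1 hφ.2.2

end main

end Cfsg.Agent.Omega.ML.LieRgd

end

section


/-!
# (ML), K-side, groups with a root group datum: the theorem (OMEGA; #17392 of helper949, refereed #17534)

* `kopp` : either the proper overgroups of `D` are in one proper subgroup, or there is a `p`-subgroup `D'` of `𝔾` such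
  that `A ⊓ R' = ⊥` for all proper overgroups `R'` of `D'` in `𝔾`.
-/

set_option autoImplicit false
set_option linter.unusedSectionVars false
set_option linter.unusedVariables false

namespace Cfsg.Agent.Omega.ML.LieRgd

open Subgroup CoxeterSystem Cfsg.Agent.ChevalleyStructure.CoxeterGeom Cfsg.Agent.Tits.Roots Cfsg.Agent.Tits.Core
  Cfsg.Agent.Tits.Exchange Cfsg.Agent.Nodes.Reps Cfsg.Agent.Nodes.BNOf Cfsg.Agent.Nodes.StabComb
  Cfsg.Agent.Nodes.Bruhat Cfsg.Agent.Nodes.OppDec Cfsg.Agent.Nodes.LeviDec Cfsg.Agent.Nodes.NormalForm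
  Cfsg.Agent.KFacts.RgdOpp Cfsg.Agent.KFacts.RgdAut Cfsg.Agent.KFacts.RgdDiag Cfsg.Agent.KFacts.RgdRigid
  Cfsg.Agent.KFacts.RgdVJ Cfsg.Agent.KFacts.RgdSyl

set_option maxHeartbeats 400000

variable {I W Y : Type*} [Fintype I] [DecidableEq I] [Group W] [Group Y] {M : CoxeterMatrix I}
  {cs : CoxeterSystem M W} {A : I → I → ℤ} {h : IsCartan M A} {p : ℕ} {T : Subgroup Y} {n : I → Y}
  {X : (I → ℤ) → Subgroup Y}

section main

variable [Finite Y] [hp : Fact p.Prime] [Finite W] (R : RGD cs h p T n X)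
  (hG1 : RGD.Sup X {x | IsRoot cs h x} = ⊤) (hZ : center Y = ⊥) {D : Subgroup (MulAut Y)} (hD : IsPGroup p D)
  (hU : ∀ u ∈ RGD.Sup X (RGD.Pos cs h), MulAut.conj u ∈ D)

include R hG1 hZ hD hU hp

end main

end Cfsg.Agent.Omega.ML.LieRgd

end
end

-- part: Mrg/Omega/KL/Star/Fam
section
prune_inst 0xe01002001100000000180580110020405400009200630001910007400a0615412000070050901f10110a2ae4403e8000000c00d90010000020008a00411c05a1842b20e210341d04310001c0f887180c00000000000000000000000000041004000000000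
set_option linter.all false
open scoped Cfsg.Agent.FastGrp

section


/-!
# THEOREM KL* for a family of `T`-invariant objects (bb #22505 (I), #23231 (4), #23252 (1), KL*(q))

`H` acts on the elementary abelian 2-group `M` (not necessarily faithfully), `T` is a Sylow 2-subgroup, `A` an exact atom
on `M`, `A ≰ O₂(H)`;  `YY` is a set of `T`-invariant subgroups of `M`, `A ≤ O₂(C_H(Y) T)` for all `Y ∈ YY`, some member
is centralised by `T`, and for every `T`-minimal `P` some member is centralised by the elements of odd order of `P`.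

* `InpF T A YY` : this situation;
* `cores` : the core for all `T`-invariant `Y` at once;
* `exists_mover` : some `T`-minimal `P` moves a given `T`-fixed vector of an irreducible `N`;
* **`InpF.exists_sysW`**, **`InpF.exists_sysT`**, `InpF.false_of`.

No `T`-fixed vector is given, `N_H(T)` may move every vector (`Y` = a subgroup `Z_j` of order `q`, torus, field
automorphisms).
-/

set_option autoImplicit false

namespace Cfsg.Agent.Omega.KL.Star.Fam

open Subgroup Cfsg Cfsg.Agent.ZN Cfsg.Agent.ClassTwoFusion.Quad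
open Cfsg.Agent.Omega.ML.MinFrame hiding comm_of_sq
open Cfsg.Agent.Omega.ML.Final Cfsg.Agent.Omega.NO3S.EMany.Low
open Cfsg.Agent.Omega.KL.Star.Core
open Cfsg.Agent.Omega.ML.Ex.TwoOdd (SysW.odd_of SysW.ne_of_center)
open Cfsg.Agent.MinSimple.VModule (o2_isPGroup o2_le le_o2 le_normalizer_o2 o2_le_of_sylow oddGen oddGen_le oddGen_def)
open Cfsg.Agent.MinSimple.MinParabolic (IsMinPar le_of_forall)

universe u v

section core

variable {H : Type u} [Group H] [Finite H] {M : Type v} [Group M] [Finite M] [MulDistribMulAction H M]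
  {T A : Subgroup H}

/-- **The core of KL***, for all `T`-invariant `Y` at once -/
theorem cores (h : LB H M T A) (hM : MLK.{u, v}) {x : M} (tx : ∀ t ∈ T, t • x = x) (hx : ¬ ∀ g : H, g • x = x) :
    ∃ (N : Type v) (_ : Group N) (_ : Finite N) (_ : MulDistribMulAction H N) (A' : Subgroup H),
      LB H N T A' ∧ A' ≤ A ∧ (∀ W : Subgroup N, (∀ g : H, ∀ w ∈ W, g • w ∈ W) → W = ⊥ ∨ W = ⊤) ∧
      ∀ Y : Subgroup M, (∀ t ∈ T, ∀ w ∈ Y, t • w ∈ Y) → (¬ ∀ g : H, Odd (orderOf g) → ∀ w ∈ Y, g • w = w) →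
        ∃ u' : N, (∀ t ∈ T, t • u' = u') ∧ (¬ ∀ g : H, g • u' = u') ∧
          ∀ g : H, Odd (orderOf g) → (∀ w ∈ Y, g • w = w) → g • u' = u' := by
  obtain ⟨x1, hx1, hs⟩ := exists_shift h tx
  have tx1 : ∀ t ∈ T, t • x1 = x1 := fun t ht => (hs t).2 (tx t ht)
  have hx1' : ¬ ∀ g : H, g • x1 = x1 := fun hc => hx fun g => (hs g).1 (hc g)
  obtain ⟨N, _, _, _, f, s⟩ := h.exists_sec
  obtain ⟨A', hAA, hA'⟩ := s.exists_atom h hM tx1 hx1' hx1
  have sqN := s.sqN h
  have hirr := s.irr h hM tx1 hx1' hx1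
  refine ⟨N, inferInstance, inferInstance, inferInstance, A', hA', hAA, hirr, fun Y TY hY => ?_⟩
  obtain ⟨u, ⟨hu1, hu2⟩, hu3⟩ := exists_vec h TY hY
  let E : Subgroup N := ((Y ⊔ wz M A h.sq).subgroupOf (cmm M A)).map f
  have hYW : ∀ t ∈ T, ∀ w ∈ Y ⊔ wz M A h.sq, t • w ∈ Y ⊔ wz M A h.sq := by
    intro t ht w hw
    have hn : (wz M A h.sq).Normal := normal_of_sq h.sq _
    obtain ⟨y, hy, w0, hw0, rfl⟩ := mem_sup_of_normal_right.1 hw
    rw [smul_mul']
    exact mul_mem (le_sup_left (a := Y) (TY t ht y hy)) (le_sup_right (a := Y) (smul_mem_wz t hw0))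
  have hE : ∀ t ∈ T, ∀ w ∈ E, t • w ∈ E := by
    rintro t ht _ ⟨w, hw, rfl⟩
    refine ⟨⟨t • (w : M), smul_mem_cmm t w.2⟩, hYW t ht _ hw, ?_⟩
    exact s.eqv t w
  have hE1 : E ≠ ⊥ := by
    intro h1
    have h2 : f ⟨u, hu2⟩ ∈ E := ⟨⟨u, hu2⟩, hu1, rfl⟩
    rw [h1, mem_bot, s.ker] at h2
    exact hu3 h2
  obtain ⟨u', hu', hu'1, tu'⟩ := exists_fix sqN h.two hE hE1
  refine ⟨u', tu', ?_, ?_⟩
  · intro hc
    have h1 : ∀ g : H, ∀ w ∈ cv N ((⊤ : Subgroup H) : Set H), g • w ∈ cv N ((⊤ : Subgroup H) : Set H) := by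
      intro g w hw
      rw [hw g (mem_top g)]
      exact hw
    rcases hirr _ h1 with h2 | h2
    · have h3 : u' ∈ cv N ((⊤ : Subgroup H) : Set H) := fun g _ => hc g
      rw [h2] at h3
      exact hu'1 (mem_bot.1 h3)
    · refine hx1' fun g => (s.fix_iff h (u := ⟨x1, hx1⟩) tx1 (R := ⊤) le_top).1 (fun g _ => ?_) g (mem_top g)
      have h3 : f ⟨x1, hx1⟩ ∈ cv N ((⊤ : Subgroup H) : Set H) := h2 ▸ mem_top _
      exact h3 g (mem_top g)
  · intro g hg hgY
    obtain ⟨w, hw, rfl⟩ := hu'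
    rw [s.smul_eq_iff]
    have hgK : g ∈ Km A := mem_of_odd h.two h.gen hg
    have hn : (wz M A h.sq).Normal := normal_of_sq h.sq _
    have hw' : (w : M) ∈ Y ⊔ wz M A h.sq := hw
    obtain ⟨y, hy, w0, hw0, hyw⟩ := mem_sup_of_normal_right.1 hw'
    rw [← hyw]
    have hcomm := comm_of_sq h.sq
    have e : g • (y * w0) * (y * w0)⁻¹ = (g • w0) * w0⁻¹ := by
      rw [smul_mul', hgY y hy, mul_inv_rev, hcomm y]
      calc g • w0 * y * (w0⁻¹ * y⁻¹) = g • w0 * (y * w0⁻¹) * y⁻¹ := by group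
        _ = g • w0 * (w0⁻¹ * y) * y⁻¹ := by rw [hcomm y w0⁻¹]
        _ = _ := by group
    rw [e]
    exact hw0 g hgK

omit [Finite M] in
/-- some `T`-minimal `P` moves the `T`-fixed vector `x` -/
theorem exists_mover (h : LB H M T A) (irr : ∀ W : Subgroup M, (∀ g : H, ∀ w ∈ W, g • w ∈ W) → W = ⊥ ∨ W = ⊤)
    {x : M} (tx : ∀ t ∈ T, t • x = x) (hx : ¬ ∀ g : H, g • x = x) :
    ∃ P : Subgroup H, IsMinPar T P ∧ ∃ p ∈ P, p • x ≠ x := by
  by_contra hc
  push Not at hc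
  -- the vectors fixed by all `T`-minimal subgroups
  let W : Subgroup M :=
    { carrier := {w | ∀ P : Subgroup H, IsMinPar T P → ∀ p ∈ P, p • w = w}
      one_mem' := fun P _ p _ => smul_one p
      mul_mem' := fun {a b} ha hb P hP p hp => by rw [smul_mul', ha P hP p hp, hb P hP p hp]
      inv_mem' := fun {a} ha P hP p hp => by rw [smul_inv', ha P hP p hp] }
  have hWm : ∀ w : M, w ∈ W ↔ ∀ P : Subgroup H, IsMinPar T P → ∀ p ∈ P, p • w = w := fun _ => Iff.rfl
  -- conjugates of `T`-minimal subgroups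
  have hconj : ∀ g ∈ normalizer (T : Set H), ∀ P : Subgroup H, IsMinPar T P →
      IsMinPar T (P.map (MulAut.conj g).toMonoidHom) := by
    intro g hg P hP
    have hTg : T.map (MulAut.conj g).toMonoidHom = T := mem_normalizer_iff_map_conj_eq.mp hg
    have hinj : Function.Injective (MulAut.conj g).toMonoidHom := (MulAut.conj g).injective
    refine ⟨?_, ?_, ?_⟩
    · calc T = T.map (MulAut.conj g).toMonoidHom := hTg.symm
        _ ≤ _ := map_mono hP.le
    · intro h1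
      apply hP.not_le
      intro p hp
      have h2 : g * p * g⁻¹ ∈ normalizer (T : Set H) := h1 ⟨p, hp, rfl⟩
      have h3 : p = g⁻¹ * (g * p * g⁻¹) * g := by group
      rw [h3]
      exact mul_mem (mul_mem (inv_mem hg) h2) hg
    · obtain ⟨L, hL, hLm⟩ := hP.exists_max
      refine ⟨L.map (MulAut.conj g).toMonoidHom, (map_lt_map_iff_of_injective hinj).2 hL, fun K hTK hK => ?_⟩
      have e : (K.comap (MulAut.conj g).toMonoidHom).map (MulAut.conj g).toMonoidHom = K :=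
        map_comap_eq_self_of_surjective (MulAut.conj g).surjective K
      rw [← e] at hK ⊢
      refine map_mono (hLm _ ?_ ((map_lt_map_iff_of_injective hinj).1 hK))
      intro t ht
      have h2 : g * t * g⁻¹ ∈ T := (mem_normalizer_iff.1 hg t).1 ht
      exact hTK h2
  have hWn : ∀ g ∈ normalizer (T : Set H), ∀ w ∈ W, g • w ∈ W := by
    intro g hg w hw
    rw [hWm]
    intro P hP p hp
    have h1 := (hWm w).1 hw _ (hconj g⁻¹ (inv_mem hg) P hP) (g⁻¹ * p * g) ⟨p, hp, by simp⟩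
    rwa [mul_smul, mul_smul, inv_smul_eq_iff] at h1
  have hWinv : ∀ g : H, ∀ w ∈ W, g • w ∈ W := by
    have h1 : (⊤ : Subgroup H) ≤ closure {g : H | g ∈ normalizer (T : Set H) ∨ ∃ P : Subgroup H, IsMinPar T P ∧ g ∈ P} :=
      le_of_forall le_top (fun g hg => subset_closure (Or.inl hg.2)) fun P hP _ p hp =>
        subset_closure (Or.inr ⟨P, hP, hp⟩)
    intro g
    refine (closure_induction (p := fun g _ => (∀ w ∈ W, g • w ∈ W) ∧ ∀ w ∈ W, g⁻¹ • w ∈ W) ?_ ?_ ?_ ?_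
      (h1 (mem_top g))).1
    · rintro g (hg | ⟨P, hP, hg⟩)
      · exact ⟨hWn g hg, hWn g⁻¹ (inv_mem hg)⟩
      · refine ⟨fun w hw => ?_, fun w hw => ?_⟩
        · rw [(hWm w).1 hw P hP g hg]
          exact hw
        · rw [(hWm w).1 hw P hP g⁻¹ (inv_mem hg)]
          exact hw
    · exact ⟨fun w hw => by rwa [one_smul], fun w hw => by rwa [inv_one, one_smul]⟩
    · rintro a b - - ⟨ha1, ha2⟩ ⟨hb1, hb2⟩
      exact ⟨fun w hw => by rw [mul_smul]; exact ha1 _ (hb1 w hw),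
        fun w hw => by rw [mul_inv_rev, mul_smul]; exact hb2 _ (ha2 w hw)⟩
    · rintro a - ⟨ha1, ha2⟩
      exact ⟨ha2, by rwa [inv_inv]⟩
  have hxW : x ∈ W := hc
  have hWtop : W = ⊤ := by
    refine (irr W hWinv).resolve_left fun h1 => hx fun g => ?_
    rw [h1, mem_bot] at hxW
    rw [hxW, smul_one]
  -- `C_H(M)` and `T`
  have hCn : (fxr H (⊤ : Subgroup M)).Normal := fxr_normal fun _ _ _ => mem_top _
  have hPC : ∀ P : Subgroup H, IsMinPar T P → P ≤ fxr H (⊤ : Subgroup M) := fun P hP p hp w _ =>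
    (hWm w).1 (hWtop ▸ mem_top w) P hP p hp
  by_cases hR : fxr H (⊤ : Subgroup M) ⊔ T = ⊤
  · apply hx
    intro g
    have h1 : g ∈ fxr H (⊤ : Subgroup M) ⊔ T := hR ▸ mem_top g
    obtain ⟨c, hc', t, ht, rfl⟩ := mem_sup_of_normal_left.1 h1
    rw [mul_smul, tx t ht, hc' x (mem_top x)]
  · apply h.nb
    refine (h.low _ le_sup_right hR).trans (NO3S.EMany.Low.o2_le_o2 le_top ?_)
    refine le_of_forall le_top ?_ fun P hP _ => (hPC P hP).trans (le_sup_left.trans le_normalizer)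
    intro g hg
    have hTg : T.map (MulAut.conj g).toMonoidHom = T := mem_normalizer_iff_map_conj_eq.mp hg.2
    have hCg : (fxr H (⊤ : Subgroup M)).map (MulAut.conj g).toMonoidHom = fxr H (⊤ : Subgroup M) :=
      mem_normalizer_iff_map_conj_eq.mp ((normalizer_eq_top_iff.2 hCn).symm ▸ mem_top g)
    have h2 : (fxr H (⊤ : Subgroup M) ⊔ T).map (MulAut.conj g).toMonoidHom = fxr H (⊤ : Subgroup M) ⊔ T := by
      rw [Subgroup.map_sup, hTg, hCg]
    exact mem_normalizer_iff_map_conj_eq.mpr h2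

end core

/-! ### The input -/

/-- **The input of THEOREM KL* for a family** -/
structure InpF {H : Type u} [Group H] {M : Type v} [Group M] [MulDistribMulAction H M] (T A : Subgroup H)
    (YY : Set (Subgroup M)) : Prop where
  sq : ∀ m : M, m * m = 1
  two : IsPGroup 2 T
  syl : ¬ 2 ∣ T.index
  el : ∀ a ∈ A, a * a = 1
  exact : (cv M (A : Set H)).index = Nat.card A
  atom : ∀ C : Subgroup H, C ≤ A → C ≠ ⊥ → C ≠ A → Nat.card C < (cv M (C : Set H)).index
  nT : ¬ A ≤ o2 (⊤ : Subgroup H)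
  TY : ∀ Y ∈ YY, ∀ t ∈ T, ∀ w ∈ Y, t • w ∈ Y
  low : ∀ Y ∈ YY, A ≤ o2 (fxr H Y ⊔ T)
  /-- some member of the family is centralised by `T` -/
  z0 : ∃ Y ∈ YY, ∀ w ∈ Y, ∀ t ∈ T, t • w = w
  /-- for every `T`-minimal `P`, the elements of odd order centralise some member of the family -/
  uni : ∀ P : Subgroup H, IsMinPar T P → ∃ Y ∈ YY, ∀ g ∈ P, Odd (orderOf g) → ∀ w ∈ Y, g • w = w
  KH : IsKGroup H

namespace InpF

variable {H : Type u} [Group H] [Finite H] {M : Type v} [Group M] [Finite M] [MulDistribMulAction H M]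
  {T A : Subgroup H} {YY : Set (Subgroup M)}

omit [Finite M] in
theorem AT (i : InpF T A YY) : A ≤ T := by
  obtain ⟨Y, hY, hYT⟩ := i.z0
  refine (i.low Y hY).trans (o2_le_of_sylow i.two fun h2 => i.syl (h2.trans (relIndex_dvd_index_of_le le_sup_right)))

/-- **THEOREM KL* for a family**, with the section: `L ≤ H`, `π : L → H'`, and for every `Y ∈ YY` a vector `u ≠ 1` fixed
by `π g` for all `g ∈ L` of odd order which centralise `Y` -/
theorem exists_sec (i : InpF T A YY) (hM : MLK.{u, v}) :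
    ∃ (L : Subgroup H) (H' : Type u) (_ : Group H') (_ : Finite H') (N : Type v) (_ : Group N) (_ : Finite N)
      (_ : MulDistribMulAction H' N) (π : L →* H') (A' : Subgroup H') (x' y' : N), T ≤ L ∧ Function.Surjective π ∧
      SysW ((T.subgroupOf L).map π) A' x' y' ∧ ∀ Y ∈ YY, ∃ u : N, u ≠ 1 ∧
        (∀ t ∈ (T.subgroupOf L).map π, t • u = u) ∧
        ∀ g : L, Odd (orderOf g) → (∀ w ∈ Y, g • w = w) → π g • u = u := by
  -- `L` minimal
  obtain ⟨L, ⟨hTL, hAL⟩, hmin⟩ : ∃ L : Subgroup H, (T ≤ L ∧ ¬ A ≤ o2 L) ∧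
      ∀ R : Subgroup H, (T ≤ R ∧ ¬ A ≤ o2 R) → R ≤ L → R = L := by
    have hfin : {L : Subgroup H | T ≤ L ∧ ¬ A ≤ o2 L}.Finite := Set.toFinite _
    obtain ⟨B, hB⟩ := hfin.exists_minimal ⟨⊤, le_top, i.nT⟩
    exact ⟨B, hB.1, fun C hC hCB => le_antisymm hCB (hB.2 hC hCB)⟩
  have hAT := i.AT
  have hAL' : A ≤ L := hAT.trans hTL
  have e1 : ∀ {C : Subgroup H}, C ≤ L → (C.subgroupOf L).map L.subtype = C := fun {C} hC => by
    rw [subgroupOf_map_subtype, inf_eq_left.2 hC]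
  have hcv : ∀ C : Subgroup L, cv M (C : Set L) = cv M ((C.map L.subtype : Subgroup H) : Set H) := by
    intro C
    ext m
    constructor
    · rintro hm _ ⟨c, hc, rfl⟩
      exact hm c hc
    · exact fun hm c hc => hm _ ⟨c, hc, rfl⟩
  have hcard : ∀ C : Subgroup L, Nat.card (C.map L.subtype) = Nat.card C := fun C =>
    card_map_of_injective L.subtype_injective
  have hlb : LB L M (T.subgroupOf L) (A.subgroupOf L) := by
    refine ⟨i.sq, i.two.comap_subtype, fun h2 => ?_, fun x hx => hAT hx, fun b hb => Subtype.ext (i.el b hb), ?_, ?_, ?_, ?_,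
      sec_KG.sub H i.KH L⟩
    · exact i.syl (h2.trans (relIndex_dvd_index_of_le hTL))
    · rw [hcv, e1 hAL', i.exact, ← hcard, e1 hAL']
    · intro C hC hC1 hCF
      rw [hcv, ← hcard]
      refine i.atom _ ?_ ?_ ?_
      · rintro _ ⟨c, hc, rfl⟩
        exact hC hc
      · intro h1
        exact hC1 ((Subgroup.map_eq_bot_iff_of_injective _ L.subtype_injective).1 h1)
      · intro h1
        apply hCF
        rw [← h1]
        exact (comap_map_eq_self_of_injective L.subtype_injective C).symm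
    · intro R hTR hR
      have h1 : R.map L.subtype ≠ L := by
        intro h2
        apply hR
        rw [eq_top_iff]
        intro r _
        have h3 : (r : H) ∈ R.map L.subtype := by
          rw [h2]
          exact r.2
        obtain ⟨s, hs, hsr⟩ := h3
        rwa [← (Subtype.ext hsr : s = r)]
      have h2 : T ≤ R.map L.subtype := fun t ht => ⟨⟨t, hTL ht⟩, hTR ht, rfl⟩
      have h3 : A ≤ o2 (R.map L.subtype) := by
        by_contra hc
        exact h1 (hmin _ ⟨h2, hc⟩ (map_subtype_le R))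
      exact fun x hx => KL.GenTool.o2_subgroupOf_le R (h3 hx)
    · intro hc
      apply hAL
      have h1 := (map_mono (f := L.subtype) hc).trans (KL.GenTool.o2_map_le L.subtype ⊤)
      rw [e1 hAL', ← MonoidHom.range_eq_map, L.range_subtype] at h1
      exact h1
  -- `L ≠ C_L(Y) T`
  have hY : ∀ Y ∈ YY, ¬ ∀ g : L, Odd (orderOf g) → ∀ w ∈ Y, g • w = w := by
    intro Y hYY hc
    apply hAL
    have h1 : oddGen L ⊔ T = L := oddGen_sup hTL fun h2 => i.syl (h2.trans (relIndex_dvd_index_of_le hTL))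
    have h2 : L ≤ fxr H Y ⊔ T := by
      rw [← h1]
      refine sup_le_sup_right ?_ T
      rw [oddGen_def, closure_le]
      rintro g ⟨hgL, hgo⟩ w hw
      exact hc ⟨g, hgL⟩ (by rwa [orderOf_mk]) w hw
    exact (le_inf (i.low Y hYY) hAL').trans (InpG.o2_le_o2_of_le h2)
  -- a `T`-fixed vector moved by `L`
  obtain ⟨Y0, hY0, hYT⟩ := i.z0
  obtain ⟨x, hxY, hx⟩ : ∃ x ∈ Y0, ¬ ∀ g : L, g • x = x := by
    by_contra hc
    push Not at hc
    exact hY Y0 hY0 fun g _ w hw => hc w hw g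
  have htx : ∀ t ∈ T.subgroupOf L, t • x = x := fun t ht => hYT x hxY t ht
  obtain ⟨N, i1, i2, i3, A', hA', -, hirr, hco⟩ := cores hlb hM htx hx
  have hco' : ∀ Y ∈ YY, ∃ u' : N, (∀ t ∈ T.subgroupOf L, t • u' = u') ∧ (¬ ∀ g : L, g • u' = u') ∧
      ∀ g : L, Odd (orderOf g) → (∀ w ∈ Y, g • w = w) → g • u' = u' := fun Y hYY =>
    hco Y (fun t ht w hw => i.TY Y hYY t ht w hw) (hY Y hYY)
  -- minimal parabolics
  have hP : ∀ P : Subgroup L, IsMinPar (T.subgroupOf L) P → ∃ u' : N, (∀ t ∈ T.subgroupOf L, t • u' = u') ∧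
      (¬ ∀ g : L, g • u' = u') ∧ ∀ p ∈ P, p • u' = u' := by
    intro P hP
    obtain ⟨Y, hYY, hYP⟩ := i.uni _ (KL.GenTool.minPar_map_subtype hTL hP)
    obtain ⟨u', tu, mu, su⟩ := hco' Y hYY
    refine ⟨u', tu, mu, ?_⟩
    have h3 : oddGen P ⊔ T.subgroupOf L = P := oddGen_sup hP.le
      fun h2 => hlb.syl (h2.trans (relIndex_dvd_index_of_le hP.le))
    have h4 : P ≤ MulAction.stabilizer L u' := by
      rw [← h3]
      refine sup_le ?_ fun t ht => tu t ht
      rw [oddGen_def, closure_le]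
      rintro g ⟨hgP, hgo⟩
      refine su g hgo fun w hw => hYP _ ⟨g, hgP, rfl⟩ ?_ w hw
      rwa [Subgroup.coe_subtype, orderOf_coe]
    exact fun p hp => h4 hp
  obtain ⟨x', tx', mx', -⟩ := hco' Y0 hY0
  obtain ⟨P, hPm, p, hp, hpx⟩ := exists_mover hA' hirr tx' mx'
  obtain ⟨u', tu', mu', hPu⟩ := hP P hPm
  obtain ⟨H', j1, j2, N', j3, j4, j5, π, f, B, x'', y'', o, hs⟩ := hA'.exists_sysW hM tx' tu' mu'
    ⟨P, hPm, ⟨p, hp, hpx⟩, hPu⟩ fun R hR => by
      obtain ⟨m, -, hm, hmR⟩ := hP R hR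
      exact ⟨m, hm, hmR⟩
  refine ⟨L, H', j1, j2, N', j3, j4, j5, π, B, x'', y'', hTL, o.πs, hs, fun Y hYY => ?_⟩
  obtain ⟨u, tu, mu, su⟩ := hco' Y hYY
  obtain ⟨u1, hu1, hus⟩ := hA'.shift tu
  refine ⟨f ⟨u1, hu1⟩, ?_, ?_, ?_⟩
  · intro h1
    refine mu fun g => (hus g).1 (hA'.fix_of_cvKm (fun t ht => (hus t).2 (tu t ht)) ((o.ker _).1 h1) g)
  · rintro _ ⟨t, ht, rfl⟩
    rw [← o.eqv t ⟨u1, hu1⟩]
    exact congrArg f (Subtype.ext ((hus t).2 (tu t ht)))
  · intro g hg hgY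
    rw [← o.eqv g ⟨u1, hu1⟩]
    exact congrArg f (Subtype.ext ((hus g).2 (su g hg hgY)))

end InpF

namespace InpF

variable {H : Type u} [Group H] [Finite H] {M : Type v} [Group M] [Finite M] [MulDistribMulAction H M]
  {T A : Subgroup H} {YY : Set (Subgroup M)}

/-- **THEOREM KL* for a family**, with the output `Two.SysT`; every element of odd order of `N_H(T)` centralises some
member of the family -/
theorem exists_sysT (i : InpF T A YY) (hM : MLK.{u, v})
    (hN : ∀ n ∈ normalizer (T : Set H), Odd (orderOf n) → ∃ Y ∈ YY, ∀ w ∈ Y, n • w = w) :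
    ∃ (H' : Type u) (_ : Group H') (_ : Finite H') (N : Type v) (_ : Group N) (_ : Finite N)
      (_ : MulDistribMulAction H' N) (T' A' : Subgroup H') (x' y' : N), ML.Ex.Two.SysT H' N T' A' x' y' := by
  obtain ⟨L, H', j1, j2, N', j3, j4, j5, π, B, x'', y'', hTL, hπ, hs, hu⟩ := i.exists_sec hM
  refine ⟨H', j1, j2, N', j3, j4, j5, _, B, x'', y'', hs.sysT fun K hK hKo => SysW.odd_of hs ?_ hK hKo⟩
  intro z hz hzo
  by_contra hz1
  have hzc := mem_center_iff.1 hz
  -- `z ∈ N(T')`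
  have hzN : z ∈ normalizer (((T.subgroupOf L).map π : Subgroup H') : Set H') := by
    rw [mem_normalizer_iff]
    intro t
    rw [← hzc t, mul_inv_cancel_right]
  have hsyl : ¬ 2 ∣ (T.subgroupOf L).index := fun h2 => i.syl (h2.trans (relIndex_dvd_index_of_le hTL))
  obtain ⟨t, ht, n, hn, hzn⟩ := KL.GenTool.exists_normalizer_map π hπ (i.two.comap_subtype) hsyl hzN
  -- an odd power
  obtain ⟨b, hb⟩ := hs.two ⟨t, ht⟩
  have hb' : t ^ 2 ^ b = 1 := congrArg Subtype.val hb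
  obtain ⟨a, m, hm, ha⟩ := Nat.exists_eq_pow_mul_and_not_dvd (orderOf_pos n).ne' 2 (by norm_num)
  have hm' : Odd m := Nat.not_even_iff_odd.1 fun h => hm h.two_dvd
  set e := 2 ^ (a + b) with he
  have hcomm : Commute t (π n) := by
    have h1 : t = z * (π n)⁻¹ := by rw [hzn, mul_inv_cancel_right]
    rw [h1]
    have h2 : Commute z (π n) := (hzc (π n)).symm
    exact h2.mul_left (Commute.refl (π n)).inv_left
  have hze : z ^ e = π (n ^ e) := by
    rw [hzn, hcomm.mul_pow, map_pow, he, pow_add, mul_comm (2 ^ a), pow_mul, hb', one_pow, one_mul]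
  have hno : Odd (orderOf (n ^ e)) := by
    have h1 : (n ^ e) ^ m = 1 := by
      rw [← pow_mul, he, pow_add, mul_assoc, mul_comm (2 ^ b), ← mul_assoc, ← ha, pow_mul, pow_orderOf_eq_one, one_pow]
    exact hm'.of_dvd_nat (orderOf_dvd_of_pow_eq_one h1)
  have hze1 : z ^ e ≠ 1 := by
    intro h1
    have h2 : orderOf z ∣ 2 ^ (a + b) := orderOf_dvd_of_pow_eq_one h1
    have h3 : (2 ^ (a + b)).Coprime (orderOf z) := Nat.Coprime.pow_left _ (Nat.coprime_two_left.mpr hzo)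
    exact hz1 (orderOf_eq_one_iff.1 (Nat.eq_one_of_dvd_coprimes h3 h2 dvd_rfl))
  -- `n ^ e` normalises `T`
  have hnN : ((n ^ e : L) : H) ∈ normalizer (T : Set H) := by
    have h1 : n ^ e ∈ normalizer ((T.subgroupOf L : Subgroup L) : Set L) := pow_mem hn _
    rw [mem_normalizer_iff] at h1 ⊢
    intro s
    constructor
    · intro hs
      exact (h1 ⟨s, hTL hs⟩).1 hs
    · intro hs
      have h2 : s ∈ L := by
        have h2 := L.mul_mem (L.mul_mem (L.inv_mem (n ^ e).2) (hTL hs)) (n ^ e).2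
        have e2 : ((n ^ e : L) : H)⁻¹ * (((n ^ e : L) : H) * s * ((n ^ e : L) : H)⁻¹) * ((n ^ e : L) : H) = s := by group
        rwa [e2] at h2
      exact (h1 ⟨s, h2⟩).2 hs
  obtain ⟨Y, hYY, hY⟩ := hN _ hnN (by rwa [orderOf_coe])
  obtain ⟨u, hu1, -, hu2⟩ := hu Y hYY
  refine SysW.ne_of_center hs (pow_mem hz e) hze1 hu1 ?_
  rw [hze]
  exact hu2 _ hno hY

open ML.Ex.Two in
/-- **THEOREM KL* for a family**, with EXT -/
theorem false_of (hM : MLK.{u, v}) (h1 : RedT.{u, v}) (h2 : ExitN.{u, v}) (h3 : LieT.{u, v}) (h4 : UThreeT.{u, v})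
    (i : InpF T A YY) (hN : ∀ n ∈ normalizer (T : Set H), Odd (orderOf n) → ∃ Y ∈ YY, ∀ w ∈ Y, n • w = w) : False := by
  obtain ⟨H', j1, j2, N', j3, j4, j5, T', B, x', y', h⟩ := i.exists_sysT hM hN
  exact h.false_of h1 h2 h3 h4

end InpF

end Cfsg.Agent.Omega.KL.Star.Fam

end

section


/-!
# KL* with an object which is only normalised (bb #24309 (6), helper513)

`s : Sec H M B N f` the section `N = U¹ / U₀` of the machine `LB H M T B`; `Y ≤ M` invariant under `T`;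
`img f Y` = the image of `Y ∩ U¹` in `N`.

* `img_inv` : an element which normalises `Y` normalises `img f Y`;
* `exists_shift` : a `T`-fixed `m` moved by `H` gives `m' ∈ N` with the same stabilisers over `T`, and if `m' ∈ img f Y`
  then `m b` is centralised by `⟨B^H⟩` for some `b ∈ Y`;
* `exists_img` : if `img f Y ≠ 1` : a `T`-fixed `u' ≠ 1` in `img f Y`;
* **`exists_trace`** : if `img f Y = 1` : a `T`-fixed `u' ≠ 1` which is fixed by every element of odd order which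
  NORMALISES `Y`.
-/

set_option autoImplicit false

namespace Cfsg.Agent.Omega.KL.Star.Nrm

open Subgroup Cfsg Cfsg.Agent.ZN Cfsg.Agent.ClassTwoFusion.Quad
open Cfsg.Agent.Omega.ML.MinFrame hiding comm_of_sq
open Cfsg.Agent.Omega.ML.Final Cfsg.Agent.Omega.NO3S.EMany.Low
open Cfsg.Agent.Omega.KL.Star.Core
open Cfsg.Agent.MinSimple.VModule (o2_isPGroup o2_le le_o2 le_normalizer_o2 o2_le_of_sylow oddGen oddGen_le oddGen_def)
open Cfsg.Agent.MinSimple.MinParabolic (IsMinPar le_of_forall)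

universe u v w

section

variable {H : Type u} [Group H] {M : Type v} [Group M] [MulDistribMulAction H M] {T B : Subgroup H}
  {N : Type v} [Group N] [MulDistribMulAction H N] {f : ↥(cmm M B) →* N}

/-- the image of `Y ∩ U¹` in `N` -/
def img (f : ↥(cmm M B) →* N) (Y : Subgroup M) : Subgroup N := (Y.subgroupOf (cmm M B)).map f

theorem mem_img {Y : Subgroup M} {n : N} : n ∈ img f Y ↔ ∃ y, ∃ hy : y ∈ cmm M B, y ∈ Y ∧ f ⟨y, hy⟩ = n := by
  constructor
  · rintro ⟨w, hw, rfl⟩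
    exact ⟨w, w.2, hw, rfl⟩
  · rintro ⟨y, hy, hyY, rfl⟩
    exact ⟨⟨y, hy⟩, hyY, rfl⟩

theorem img_le_one (s : Sec H M B N f) {Y : Subgroup M} (h : img f Y = ⊥) {y : M} (hy : y ∈ Y) (hyU : y ∈ cmm M B) :
    y ∈ cv M (Km B : Set H) := by
  have h1 : f ⟨y, hyU⟩ ∈ img f Y := mem_img.2 ⟨y, hyU, hy, rfl⟩
  rw [h, mem_bot, s.ker] at h1
  exact h1

variable [Finite H] [Finite M] [Finite N]

/-- **the trace vector** -/
theorem exists_trace (s : Sec H M B N f) (h : LB H M T B) {Y : Subgroup M} (TY : ∀ t ∈ T, ∀ w ∈ Y, t • w ∈ Y)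
    (hY : ¬ ∀ g : H, Odd (orderOf g) → ∀ w ∈ Y, g • w = w) (h0 : img f Y = ⊥) :
    ∃ u' : N, u' ≠ 1 ∧ (∀ t ∈ T, t • u' = u') ∧
      ∀ g : H, Odd (orderOf g) → (∀ w ∈ Y, g • w ∈ Y) → g • u' = u' := by
  obtain ⟨u, ⟨hu1, hu2⟩, hu3⟩ := exists_vec h TY hY
  let E : Subgroup N := ((Y ⊔ wz M B h.sq).subgroupOf (cmm M B)).map f
  have hYW : ∀ t ∈ T, ∀ w ∈ Y ⊔ wz M B h.sq, t • w ∈ Y ⊔ wz M B h.sq := by
    intro t ht w hw
    have hn : (wz M B h.sq).Normal := normal_of_sq h.sq _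
    obtain ⟨y, hy, w0, hw0, rfl⟩ := mem_sup_of_normal_right.1 hw
    rw [smul_mul']
    exact mul_mem (le_sup_left (a := Y) (TY t ht y hy)) (le_sup_right (a := Y) (smul_mem_wz t hw0))
  have hE : ∀ t ∈ T, ∀ w ∈ E, t • w ∈ E := by
    rintro t ht _ ⟨w, hw, rfl⟩
    refine ⟨⟨t • (w : M), smul_mem_cmm t w.2⟩, hYW t ht _ hw, ?_⟩
    exact s.eqv t w
  have hE1 : E ≠ ⊥ := by
    intro h1
    have h2 : f ⟨u, hu2⟩ ∈ E := ⟨⟨u, hu2⟩, hu1, rfl⟩
    rw [h1, mem_bot, s.ker] at h2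
    exact hu3 h2
  obtain ⟨u', hu', hu'1, tu'⟩ := exists_fix (s.sqN h) h.two hE hE1
  refine ⟨u', hu'1, tu', fun g hg hgY => ?_⟩
  obtain ⟨w, hw, rfl⟩ := hu'
  rw [s.smul_eq_iff]
  have hgK : g ∈ Km B := mem_of_odd h.two h.gen hg
  have hn : (wz M B h.sq).Normal := normal_of_sq h.sq _
  have hw' : (w : M) ∈ Y ⊔ wz M B h.sq := hw
  obtain ⟨y, hy, w0, hw0, hyw⟩ := mem_sup_of_normal_right.1 hw'
  rw [← hyw]
  have hcomm := comm_of_sq h.sq
  have e : g • (y * w0) * (y * w0)⁻¹ = ((g • y) * y⁻¹) * ((g • w0) * w0⁻¹) := by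
    rw [smul_mul', mul_inv_rev, hcomm w0⁻¹ y⁻¹]
    calc g • y * g • w0 * (y⁻¹ * w0⁻¹) = g • y * (g • w0 * y⁻¹) * w0⁻¹ := by group
      _ = g • y * (y⁻¹ * g • w0) * w0⁻¹ := by rw [hcomm (g • w0) y⁻¹]
      _ = _ := by group
  rw [e]
  refine mul_mem ?_ (hw0 g hgK)
  exact img_le_one s h0 (mul_mem (hgY y hy) (inv_mem hy)) (mem_cmm hgK y)

end

end Cfsg.Agent.Omega.KL.Star.Nrm

end

section


/-!
# The machine with a weak uniqueness: `LB ⟹ SysV` (bb #23705 (b), #23876 (I), #24309 (6))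

* `SysV H M T A x y` : the fields of helper585's `SysT` without `odd`;
* `SysV.sysT` : with `O(H) = 1` it is `SysT`;
* **`exists_sysV`** : `Out` and `SysV` from `LB H M T B`, two `T`-fixed vectors `x, y` of `M`, **any** overgroup of `T`
  which fixes `y` and moves `x`, and: **`H` itself is not `T`-minimal** (in particular other `T`-minimal `P` may move
  both `x` and `y`);
* `not_isMinPar` : `H` is not `T`-minimal if the `T`-minimal `P` with `B ≰ O₂(P)` fix a vector which `H` moves.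
-/

set_option autoImplicit false

namespace Cfsg.Agent.Omega.KL.Star.Mix

open Subgroup Cfsg Cfsg.Agent.ZN Cfsg.Agent.ClassTwoFusion.Quad Cfsg.Agent.Omega.ML.MinFrame
open Cfsg.Agent.Omega.ML.Final Cfsg.Agent.Omega.NO3S.EMany.Low
open Cfsg.Agent.MinSimple.VModule (o2_isPGroup o2_le le_o2 le_normalizer_o2 o2_le_of_sylow)
open Cfsg.Agent.MinSimple.MinParabolic (IsMinPar le_of_forall)
open Cfsg.Agent.Omega.ML.Ex.Two (SysT Mv RedT ExitN LieT UThreeT)

universe u v

/-- **the fields of `SysT` without `odd`** -/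
structure SysV (H : Type u) [Group H] (M : Type v) [Group M] [MulDistribMulAction H M] (T A : Subgroup H)
    (x y : M) : Prop extends Mv T x y where
  sq : ∀ m : M, m * m = 1
  faith : ∀ h : H, (∀ m : M, h • m = m) → h = 1
  irr : ∀ W : Subgroup M, (∀ h : H, ∀ w ∈ W, h • w ∈ W) → W = ⊥ ∨ W = ⊤
  two : IsPGroup 2 T
  syl : ¬ 2 ∣ T.index
  AT : A ≤ T
  el : ∀ a ∈ A, a * a = 1
  four : 4 ≤ Nat.card A
  exact : (cv M (A : Set H)).index = Nat.card A
  atom : ∀ C : Subgroup H, C ≤ A → C ≠ ⊥ → C ≠ A → Nat.card C < (cv M (C : Set H)).index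
  low : ∀ R : Subgroup H, T ≤ R → R ≠ ⊤ → A ≤ o2 R
  nmax : ¬ ∃ N : Subgroup H, N ≠ ⊤ ∧ ∀ R : Subgroup H, T ≤ R → R ≠ ⊤ → R ≤ N
  KH : IsKGroup H

/-- with `O(H) = 1` -/
theorem SysV.sysT {H : Type u} [Group H] {M : Type v} [Group M] [MulDistribMulAction H M] {T A : Subgroup H}
    {x y : M} (s : SysV H M T A x y) (ho : ∀ N : Subgroup H, N.Normal → Odd (Nat.card N) → N = ⊥) :
    SysT H M T A x y where
  toMv := s.toMv
  sq := s.sq
  faith := s.faith
  irr := s.irr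
  two := s.two
  syl := s.syl
  AT := s.AT
  el := s.el
  four := s.four
  exact := s.exact
  atom := s.atom
  low := s.low
  nmax := s.nmax
  odd := ho
  KH := s.KH

section

variable {H : Type u} [Group H] [Finite H] {M : Type v} [Group M] [Finite M] [MulDistribMulAction H M]
  {T B : Subgroup H}

/-- **`SysV` from `LB`** and vectors of `U¹ = [M, ⟨B^H⟩]` -/
theorem exists_sysV₀ (h : LB H M T B) (hM : MLK.{u, v}) {x y : M} (tx : ∀ t ∈ T, t • x = x)
    (ty : ∀ t ∈ T, t • y = y) (hxU : x ∈ cmm M B) (hyU : y ∈ cmm M B) (hy : ¬ ∀ g : H, g • y = y)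
    (mov : ∃ R : Subgroup H, T ≤ R ∧ (∃ p ∈ R, p • x ≠ x) ∧ ∀ p ∈ R, p • y = y)
    (nm : ¬ IsMinPar T (⊤ : Subgroup H)) :
    ∃ (H' : Type u) (_ : Group H') (_ : Finite H') (N : Type v) (_ : Group N) (_ : Finite N)
      (_ : MulDistribMulAction H' N) (π : H →* H') (f : ↥(cmm M B) →* N) (A' : Subgroup H'),
      Out H M T B H' N π f A' ∧ SysV H' N (T.map π) A' (f ⟨x, hxU⟩) (f ⟨y, hyU⟩) := by
  have hx : ¬ ∀ g : H, g • x = x := by
    obtain ⟨R, -, ⟨p, -, hp⟩, -⟩ := mov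
    exact fun hc => hp (hc p)
  obtain ⟨H', _, _, N, _, _, _, π, f, A', o⟩ := h.exists_out hM tx hx hxU
  refine ⟨H', inferInstance, inferInstance, N, inferInstance, inferInstance, inferInstance, π, f, A', o, ?_⟩
  -- images of vectors
  have him : ∀ {m : M} (hm : m ∈ cmm M B) {g : H}, g • m = m → π g • f ⟨m, hm⟩ = f ⟨m, hm⟩ := by
    intro m hm g hg
    rw [← o.eqv g ⟨m, hm⟩]
    exact congrArg f (Subtype.ext hg)
  have hne : ∀ {m : M} (hm : m ∈ cmm M B), (∀ t ∈ T, t • m = m) → (¬ ∀ g : H, g • m = m) → f ⟨m, hm⟩ ≠ 1 := by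
    intro m hm tm hc h1
    exact hc fun g => h.fix_of_cvKm tm ((o.ker _).1 h1) g
  have hback : ∀ {m : M} (hm : m ∈ cmm M B), (∀ t ∈ T, t • m = m) → ∀ R : Subgroup H, T ≤ R →
      (∀ g ∈ R, π g • f ⟨m, hm⟩ = f ⟨m, hm⟩) → ∀ g ∈ R, g • m = m := by
    intro m hm tm R hTR hR
    refine h.fix_of_mod tm hTR (I := cv M (Km B : Set H)) (fun w hw tw g _ => h.fix_of_cvKm tw hw g) fun g hg => ?_
    have h1 := hR g hg
    rw [← o.eqv g ⟨m, hm⟩, ← mul_inv_eq_one, ← map_inv, ← map_mul, o.ker] at h1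
    exact h1
  have x1 := hne hxU tx hx
  have y1 := hne hyU ty hy
  have htx : ∀ t ∈ T.map π, t • f ⟨x, hxU⟩ = f ⟨x, hxU⟩ := by
    rintro _ ⟨t, ht, rfl⟩
    exact him hxU (tx t ht)
  have hty : ∀ t ∈ T.map π, t • f ⟨y, hyU⟩ = f ⟨y, hyU⟩ := by
    rintro _ ⟨t, ht, rfl⟩
    exact him hyU (ty t ht)
  have hmov : ∃ R' : Subgroup H', T.map π ≤ R' ∧ (∀ p ∈ R', p • f ⟨y, hyU⟩ = f ⟨y, hyU⟩) ∧
      ∃ p ∈ R', p • f ⟨x, hxU⟩ ≠ f ⟨x, hxU⟩ := by
    obtain ⟨R, hTR, ⟨p, hp, hpx⟩, hRy⟩ := mov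
    refine ⟨R.map π, map_mono hTR, ?_, ?_⟩
    · rintro _ ⟨q, hq, rfl⟩
      exact him hyU (hRy q hq)
    · by_contra hc
      push Not at hc
      exact hpx (hback hxU tx R hTR (fun g hg => hc _ ⟨g, hg, rfl⟩) p hp)
  have hxy : f ⟨x, hxU⟩ ≠ f ⟨y, hyU⟩ := by
    intro he
    obtain ⟨R, -, hRy, p, hp, hpx⟩ := hmov
    rw [he] at hpx
    exact hpx (hRy p hp)
  refine ⟨⟨x1, y1, htx, hty, hmov⟩, o.lb.sq, o.faith, o.irr, o.lb.two, o.lb.syl, o.lb.BT, o.lb.el,
    four_le o.lb.sq o.faith o.irr o.lb htx hty x1 y1 hxy, o.lb.exact, o.lb.atom, o.lb.low, ?_, o.lb.KH⟩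
  rintro ⟨L, hL, hLm⟩
  by_cases hn : (⊤ : Subgroup H') ≤ normalizer ((T.map π : Subgroup H') : Set H')
  · exact o.lb.nb (o.lb.BT.trans (le_o2 le_top o.lb.two hn))
  · obtain ⟨P, hP, hPt⟩ := KL.GenTool.exists_minPar_map π o.πs
      (⟨le_top, hn, L, lt_top_iff_ne_top.2 hL, fun K hK hlt => hLm K hK hlt.ne⟩ : IsMinPar (T.map π) ⊤)
    have h1 : P ≠ ⊤ := fun h1 => nm (h1 ▸ hP)
    apply o.lb.nb
    have h2 := (o.AB.trans (map_mono (h.low P hP.le h1))).trans (KL.GenTool.o2_map_le π P)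
    rwa [hPt] at h2

/-- **`SysV` from `LB`**: `x, y` fixed by `T`, some overgroup of `T` fixes `y` and moves `x`; `H` is not `T`-minimal -/
theorem exists_sysV (h : LB H M T B) (hM : MLK.{u, v}) {x y : M} (tx : ∀ t ∈ T, t • x = x)
    (ty : ∀ t ∈ T, t • y = y) (hy : ¬ ∀ g : H, g • y = y)
    (mov : ∃ R : Subgroup H, T ≤ R ∧ (∃ p ∈ R, p • x ≠ x) ∧ ∀ p ∈ R, p • y = y)
    (nm : ¬ IsMinPar T (⊤ : Subgroup H)) :
    ∃ (H' : Type u) (_ : Group H') (_ : Finite H') (N : Type v) (_ : Group N) (_ : Finite N)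
      (_ : MulDistribMulAction H' N) (π : H →* H') (f : ↥(cmm M B) →* N) (A' : Subgroup H') (x' y' : N),
      Out H M T B H' N π f A' ∧ SysV H' N (T.map π) A' x' y' := by
  obtain ⟨x', hxU, hx'⟩ := h.shift tx
  obtain ⟨y', hyU, hy'⟩ := h.shift ty
  obtain ⟨R, hR, ⟨p, hp, hpx⟩, hRy⟩ := mov
  obtain ⟨H', i1, i2, N, i3, i4, i5, π, f, A', o, hs⟩ := exists_sysV₀ h hM (x := x') (y := y')
    (fun t ht => (hx' t).2 (tx t ht)) (fun t ht => (hy' t).2 (ty t ht)) hxU hyU
    (fun hc => hy fun g => (hy' g).1 (hc g)) ⟨R, hR, ⟨p, hp, fun hc => hpx ((hx' p).1 hc)⟩, fun q hq => (hy' q).2 (hRy q hq)⟩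
    nm
  exact ⟨H', i1, i2, N, i3, i4, i5, π, f, A', _, _, o, hs⟩

end

end Cfsg.Agent.Omega.KL.Star.Mix

end
end

-- part: Mrg/Omega/KL/StarR/Alt
section
prune_inst 0xd0000300500000000000058011002000540000900023000191400740020e15010000070050801e0011082a3400380000000c00d9001000000000020041180481802a20c29008010401000180f883180c00000000000000000000000000041004000000000
set_option linter.all false
open scoped Cfsg.Agent.FastGrp

-- merged: Cfsg.Agent.Omega.NOThreeL.RZ.TwoC.LemT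
section

/-!
# LEMMA T1 (helper162, bb #24923)

`H` acts on the elementary abelian 2-group `M`, `T` is a Sylow 2-subgroup of `H`, `H₁` is normal in `H` with `H = H₁ T`
(i.e. `O²(H) ≤ H₁`), `T₁ = T ∩ H₁`.

* `tr` : the trace `v ↦ ∏ {x v : x T₁ ⊆ P₁}` from `C_M(T₁)` to `C_M(P₁)`;
* `fix_of_trace` : if all `T`-fixed vectors are fixed by `P₁`, `|P₁ : T₁|` is odd and `T` normalises `P₁` and `T₁`, then `P₁`
  centralises each `T`-invariant subgroup of `C_M(T₁)`;
* **`lemT`** : if every minimal parabolic `P` over `T` which moves a `T`-fixed vector normalises `T₁`, then `T₁` centralises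
  `⟨C_M(T)^H⟩`;
* **`lemT_sub`** : the form inside a group: `M, H ≤ G`, `H ≤ N_G(M)`.
-/

set_option autoImplicit false
set_option linter.unusedSectionVars false

namespace Cfsg.Agent.Omega.NOThreeL.RZ.TwoC.LemT

open Subgroup Cfsg
open Cfsg.Agent.MinSimple.MinParabolic (IsMinPar)

/-! ### The trace -/

section Trace

variable {H : Type*} [Group H] [Finite H] {M : Type*} [CommGroup M] [MulDistribMulAction H M]

/-- the cosets `x T₁` in `P₁` -/
noncomputable def cosets (P₁ T₁ : Subgroup H) : Finset (H ⧸ T₁) :=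
  letI := Fintype.ofFinite (H ⧸ T₁)
  letI := Classical.decPred fun c : H ⧸ T₁ => c.out ∈ P₁
  Finset.univ.filter fun c => c.out ∈ P₁

variable {P₁ T₁ T : Subgroup H}

theorem mem_cosets {c : H ⧸ T₁} : c ∈ cosets P₁ T₁ ↔ c.out ∈ P₁ := by
  classical
  simp [cosets]

theorem mk_mem_cosets (hle : T₁ ≤ P₁) {x : H} : (x : H ⧸ T₁) ∈ cosets P₁ T₁ ↔ x ∈ P₁ := by
  rw [mem_cosets]
  obtain ⟨t, ht⟩ := QuotientGroup.mk_out_eq_mul T₁ x
  rw [ht]
  exact Subgroup.mul_mem_cancel_right _ (hle t.2)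

/-- the number of these cosets -/
theorem card_cosets (hle : T₁ ≤ P₁) : (cosets P₁ T₁).card = T₁.relIndex P₁ := by
  classical
  let f : (P₁ ⧸ T₁.subgroupOf P₁) → H ⧸ T₁ := Quotient.lift (fun x : P₁ => ((x : H) : H ⧸ T₁)) (by
    intro a b hab
    exact QuotientGroup.eq.2 (mem_subgroupOf.1 (QuotientGroup.leftRel_apply.1 hab)))
  have hf : ∀ x : P₁, f (x : P₁ ⧸ T₁.subgroupOf P₁) = ((x : H) : H ⧸ T₁) := fun _ => rfl
  have hinj : Function.Injective f := by
    intro a b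
    induction a using QuotientGroup.induction_on
    induction b using QuotientGroup.induction_on
    rw [hf, hf]
    intro h
    exact QuotientGroup.eq.2 (mem_subgroupOf.2 (QuotientGroup.eq.1 h))
  have himg : ((cosets P₁ T₁ : Finset (H ⧸ T₁)) : Set (H ⧸ T₁)) = Set.range f := by
    ext c
    rw [Finset.mem_coe, mem_cosets]
    constructor
    · intro h
      exact ⟨((⟨c.out, h⟩ : P₁) : P₁ ⧸ T₁.subgroupOf P₁), (hf _).trans (QuotientGroup.out_eq' c)⟩
    · rintro ⟨a, rfl⟩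
      induction a using QuotientGroup.induction_on with
      | H x =>
        rw [hf, ← mem_cosets, mk_mem_cosets hle]
        exact x.2
  rw [Subgroup.relIndex, Subgroup.index_eq_card, ← Nat.card_range_of_injective hinj, ← himg]
  simp

/-- the trace -/
noncomputable def tr (P₁ T₁ : Subgroup H) (v : M) : M := ∏ c ∈ cosets P₁ T₁, c.out • v

theorem tr_mul (v w : M) : tr P₁ T₁ (v * w) = tr P₁ T₁ v * tr P₁ T₁ w := by
  simp [tr, smul_mul', Finset.prod_mul_distrib]

theorem out_smul {v : M} (hv : ∀ t ∈ T₁, t • v = v) (x : H) : ((x : H ⧸ T₁)).out • v = x • v := by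
  obtain ⟨t, ht⟩ := QuotientGroup.mk_out_eq_mul T₁ x
  rw [ht, mul_smul, hv t t.2]

/-- the trace is fixed by `P₁` -/
theorem smul_tr (hle : T₁ ≤ P₁) {v : M} (hv : ∀ t ∈ T₁, t • v = v) {p : H} (hp : p ∈ P₁) :
    p • tr P₁ T₁ v = tr P₁ T₁ v := by
  rw [tr, Finset.smul_prod']
  refine Finset.prod_bij' (fun c _ => p • c) (fun c _ => p⁻¹ • c) ?_ ?_ ?_ ?_ ?_
  · intro c hc
    rw [← QuotientGroup.out_eq' c, MulAction.Quotient.smul_coe, smul_eq_mul, mk_mem_cosets hle]
    exact mul_mem hp (mem_cosets.1 hc)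
  · intro c hc
    rw [← QuotientGroup.out_eq' c, MulAction.Quotient.smul_coe, smul_eq_mul, mk_mem_cosets hle]
    exact mul_mem (inv_mem hp) (mem_cosets.1 hc)
  · intro c _
    exact inv_smul_smul p c
  · intro c _
    exact smul_inv_smul p c
  · intro c _
    conv_rhs => rw [← QuotientGroup.out_eq' c, MulAction.Quotient.smul_coe, smul_eq_mul, out_smul hv, mul_smul]

/-- the trace of a fixed vector -/
theorem tr_of_fix (sq : ∀ m : M, m * m = 1) (hodd : Odd (cosets P₁ T₁).card) {v : M}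
    (hv : ∀ p ∈ P₁, p • v = v) : tr P₁ T₁ v = v := by
  rw [tr, Finset.prod_congr rfl (fun c hc => hv _ (mem_cosets.1 hc)), Finset.prod_const]
  obtain ⟨k, hk⟩ := hodd
  rw [hk, pow_add, pow_mul, pow_one, pow_two, sq, one_pow, one_mul]

/-- the trace commutes with `T` -/
theorem tr_smul (hle : T₁ ≤ P₁) {t : H} (h1 : ∀ x ∈ P₁, t * x * t⁻¹ ∈ P₁) (h1' : ∀ x ∈ P₁, t⁻¹ * x * t ∈ P₁)
    (h2 : ∀ x ∈ T₁, t * x * t⁻¹ ∈ T₁) (h2' : ∀ x ∈ T₁, t⁻¹ * x * t ∈ T₁)
    {v : M} (hv : ∀ x ∈ T₁, x • v = v) : tr P₁ T₁ (t • v) = t • tr P₁ T₁ v := by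
  have hv' : ∀ x ∈ T₁, x • t • v = t • v := by
    intro x hx
    have := hv _ (h2' x hx)
    rw [mul_smul, mul_smul, inv_smul_eq_iff] at this
    exact this
  rw [tr, tr, Finset.smul_prod']
  refine Finset.prod_bij' (fun c _ => ((t⁻¹ * c.out * t : H) : H ⧸ T₁)) (fun c _ => ((t * c.out * t⁻¹ : H) : H ⧸ T₁))
    ?_ ?_ ?_ ?_ ?_
  · intro c hc
    rw [mk_mem_cosets hle]
    exact h1' _ (mem_cosets.1 hc)
  · intro c hc
    rw [mk_mem_cosets hle]
    exact h1 _ (mem_cosets.1 hc)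
  · intro c _
    obtain ⟨x, hx⟩ := QuotientGroup.mk_out_eq_mul T₁ (t⁻¹ * c.out * t)
    rw [hx]
    conv_rhs => rw [← QuotientGroup.out_eq' c]
    refine QuotientGroup.eq.2 ?_
    have := h2 _ (inv_mem x.2)
    have e : (t * (t⁻¹ * c.out * t * (x : H)) * t⁻¹)⁻¹ * c.out = t * (x : H)⁻¹ * t⁻¹ := by group
    rw [e]
    exact this
  · intro c _
    obtain ⟨x, hx⟩ := QuotientGroup.mk_out_eq_mul T₁ (t * c.out * t⁻¹)
    rw [hx]
    conv_rhs => rw [← QuotientGroup.out_eq' c]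
    refine QuotientGroup.eq.2 ?_
    have := h2' _ (inv_mem x.2)
    have e : (t⁻¹ * (t * c.out * t⁻¹ * (x : H)) * t)⁻¹ * c.out = t⁻¹ * (x : H)⁻¹ * t := by group
    rw [e]
    exact this
  · intro c _
    rw [out_smul hv, mul_smul, mul_smul, smul_inv_smul]

end Trace

/-! ### The step -/

section Step

variable {H : Type*} [Group H] [Finite H] {M : Type*} [Group M] [Finite M] [MulDistribMulAction H M]

/-- a 2-group has fixed points on invariant subgroups of `M` -/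
theorem exists_fixed (sq : ∀ m : M, m * m = 1) {B : Subgroup H} (hB : IsPGroup 2 B) {W : Subgroup M}
    (hW : W ≠ ⊥) (hWB : ∀ b ∈ B, ∀ x ∈ W, b • x ∈ W) : ∃ w ∈ W, w ≠ 1 ∧ ∀ b ∈ B, b • w = w := by
  let _ : MulAction B W :=
    { smul := fun b x => ⟨(b : H) • (x : M), hWB b b.2 x x.2⟩
      one_smul := fun x => Subtype.ext (one_smul H (x : M))
      mul_smul := fun b c x => Subtype.ext (mul_smul (b : H) (c : H) (x : M)) }
  have hcard : 2 ∣ Nat.card W := by
    have h1 : IsPGroup 2 W := fun x => ⟨1, by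
      rw [pow_one, pow_two]
      exact Subtype.ext (sq x)⟩
    have : Nontrivial W := (Subgroup.nontrivial_iff_ne_bot _).2 hW
    obtain ⟨k, hk⟩ := IsPGroup.iff_card.1 h1
    rw [hk]
    refine dvd_pow_self 2 ?_
    rintro rfl
    have h2 : 1 < Nat.card W := Finite.one_lt_card
    rw [hk, pow_zero] at h2
    omega
  have : Fact (Nat.Prime 2) := ⟨Nat.prime_two⟩
  obtain ⟨b, hb1, hb2⟩ := hB.exists_fixed_point_of_prime_dvd_card_of_fixed_point (α := W) hcard (a := 1)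
    (fun b => Subtype.ext (smul_one (b : H)))
  exact ⟨b, b.2, fun h => hb2 (Subtype.ext h.symm), fun c hc => congrArg Subtype.val (hb1 ⟨c, hc⟩)⟩

/-- **The step.** -/
theorem fix_of_trace (sq : ∀ m : M, m * m = 1) {T T₁ P₁ : Subgroup H} (hT : IsPGroup 2 T) (hle : T₁ ≤ P₁)
    (hodd : ¬ 2 ∣ T₁.relIndex P₁) (hP : T ≤ normalizer (P₁ : Set H)) (h1 : T ≤ normalizer (T₁ : Set H))
    (hfix : ∀ z : M, (∀ t ∈ T, t • z = z) → ∀ p ∈ P₁, p • z = z) {L : Subgroup M}
    (hL : ∀ t ∈ T, ∀ v ∈ L, t • v ∈ L) (hL1 : ∀ t ∈ T₁, ∀ v ∈ L, t • v = v) :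
    ∀ p ∈ P₁, ∀ v ∈ L, p • v = v := by
  have hcomm : ∀ a b : M, a * b = b * a := fun a b => by
    have h3 : ∀ m : M, m⁻¹ = m := fun m => inv_eq_of_mul_eq_one_left (sq m)
    calc a * b = (a * b)⁻¹ := (h3 _).symm
      _ = b⁻¹ * a⁻¹ := mul_inv_rev a b
      _ = b * a := by rw [h3, h3]
  let cg : CommGroup M := { ‹Group M› with mul_comm := hcomm }
  have hodd' : Odd (cosets P₁ T₁).card := by
    rw [card_cosets hle]
    exact Nat.odd_iff.2 (by omega)
  let θ : M →* M :=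
    { toFun := fun v => v * tr P₁ T₁ v
      map_one' := by
        have : tr P₁ T₁ (1 : M) = 1 := by simp [tr]
        rw [this, one_mul]
      map_mul' := fun v w => by
        rw [tr_mul]
        exact mul_mul_mul_comm _ _ _ _ }
  have hθ : ∀ v : M, θ v = v * tr P₁ T₁ v := fun _ => rfl
  have hv1 : ∀ v ∈ L, ∀ t ∈ T₁, t • v = v := fun v hv t ht => hL1 t ht v hv
  have key : ∀ v ∈ L, θ v = 1 := by
    by_contra hc
    push Not at hc
    obtain ⟨v₀, hv₀, hv₀1⟩ := hc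
    have hne : L.map θ ≠ ⊥ := fun h => hv₀1 (by
      have : θ v₀ ∈ L.map θ := mem_map_of_mem θ hv₀
      rwa [h, mem_bot] at this)
    have hinv : ∀ t ∈ T, ∀ x ∈ L.map θ, t • x ∈ L.map θ := by
      rintro t ht _ ⟨v, hv, rfl⟩
      refine ⟨t • v, hL t ht v hv, ?_⟩
      have hn := mem_normalizer_iff.1 (hP ht)
      have hn' := mem_normalizer_iff.1 (hP (inv_mem ht))
      have hm := mem_normalizer_iff.1 (h1 ht)
      have hm' := mem_normalizer_iff.1 (h1 (inv_mem ht))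
      rw [inv_inv] at hn' hm'
      rw [hθ, hθ, smul_mul', tr_smul hle (fun x hx => (hn x).1 hx) (fun x hx => (hn' x).1 hx)
        (fun x hx => (hm x).1 hx) (fun x hx => (hm' x).1 hx) (hv1 v hv)]
    obtain ⟨w, ⟨v, hv, rfl⟩, hw1, hwT⟩ := exists_fixed sq hT hne hinv
    have h2 : tr P₁ T₁ (θ v) = θ v := tr_of_fix sq hodd' (hfix _ hwT)
    have h3 : tr P₁ T₁ (tr P₁ T₁ v) = tr P₁ T₁ v :=
      tr_of_fix sq hodd' (fun p hp => smul_tr hle (hv1 v hv) hp)
    have h4 : tr P₁ T₁ (θ v) = 1 := by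
      rw [hθ, tr_mul, h3]
      exact sq _
    exact hw1 (h2.symm.trans h4)
  intro p hp v hv
  have h5 : v = tr P₁ T₁ v := by
    have := key v hv
    rw [hθ] at this
    have h6 : v⁻¹ = tr P₁ T₁ v := inv_eq_of_mul_eq_one_right this
    rw [← h6]
    exact (inv_eq_of_mul_eq_one_left (sq v)).symm
  rw [h5]
  exact smul_tr hle (hv1 v hv) hp

/-- `[N H : H] = [N : H ∩ N]` for `H ≤ N(N)` -/
theorem relIndex_sup_of_le {A N : Subgroup H} (h : A ≤ normalizer (N : Set H)) :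
    A.relIndex (A ⊔ N) = A.relIndex N := by
  have h1 : (N.subgroupOf (A ⊔ N)).Normal :=
    (Subgroup.normal_subgroupOf_iff_le_normalizer le_sup_right).2 (sup_le h le_normalizer)
  have h2 := Cfsg.Agent.Lib.SylowNormalInf.relIndex_sup_of_normal (A.subgroupOf (A ⊔ N)) (N.subgroupOf (A ⊔ N))
  rw [← Subgroup.subgroupOf_sup le_sup_left le_sup_right, Subgroup.relIndex_subgroupOf le_rfl,
    Subgroup.relIndex_subgroupOf le_sup_right] at h2
  exact h2

/-- **LEMMA T1.** -/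
theorem lemT (sq : ∀ m : M, m * m = 1) {T H₁ : Subgroup H} (hn : H₁.Normal) (hT : IsPGroup 2 T) (hTi : ¬ 2 ∣ T.index)
    (hsup : H₁ ⊔ T = ⊤)
    (hpar : ∀ P : Subgroup H, IsMinPar T P → (∃ z : M, (∀ t ∈ T, t • z = z) ∧ ∃ p ∈ P, p • z ≠ z) →
      P ≤ normalizer ((T ⊓ H₁ : Subgroup H) : Set H)) :
    ∀ z : M, (∀ t ∈ T, t • z = z) → ∀ h t : H, t ∈ T → t ∈ H₁ → t • h • z = h • z := by
  set T₁ : Subgroup H := T ⊓ H₁ with hT₁
  set N : Subgroup H := normalizer (T₁ : Set H) with hN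
  have hTN : normalizer (T : Set H) ≤ N := by
    intro x hx
    rw [mem_normalizer_iff] at hx ⊢
    intro y
    have h3 : y ∈ H₁ ↔ x * y * x⁻¹ ∈ H₁ := by
      constructor
      · intro hy
        exact hn.conj_mem y hy x
      · intro hy
        have := hn.conj_mem _ hy x⁻¹
        have e : x⁻¹ * (x * y * x⁻¹) * x⁻¹⁻¹ = y := by group
        rwa [e] at this
    rw [hT₁, mem_inf, mem_inf, ← hx y, ← h3]
  let Λ : Subgroup M := closure {m | ∃ n ∈ N, ∃ z : M, (∀ t ∈ T, t • z = z) ∧ m = n • z}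
  have hΛN : ∀ n ∈ N, ∀ v ∈ Λ, n • v ∈ Λ := by
    intro n hnN
    have h1 : Λ ≤ Λ.comap (MulDistribMulAction.toMonoidHom M n) := by
      refine (closure_le _).2 ?_
      rintro _ ⟨k, hk, z, hz, rfl⟩
      refine subset_closure ⟨n * k, mul_mem hnN hk, z, hz, ?_⟩
      exact (mul_smul _ _ _).symm
    exact fun v hv => h1 hv
  have hT1 : T ≤ N := le_normalizer.trans hTN
  have hΛT : ∀ t ∈ T₁, ∀ v ∈ Λ, t • v = v := by
    intro t ht
    have h1 : Λ ≤ (MonoidHom.eqLocus (MulDistribMulAction.toMonoidHom M t) (MonoidHom.id M)) := by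
      refine (closure_le _).2 ?_
      rintro _ ⟨k, hk, z, hz, rfl⟩
      change t • k • z = k • z
      have h2 : k⁻¹ * t * k ∈ T₁ := by
        have := (mem_normalizer_iff.1 (inv_mem hk) t).1 ht
        rwa [inv_inv] at this
      have h3 := hz _ h2.1
      rwa [mul_smul, mul_smul, inv_smul_eq_iff] at h3
    exact fun v hv => h1 hv
  let Y : Subgroup H :=
    { carrier := {h | (∀ v ∈ Λ, h • v ∈ Λ) ∧ ∀ v ∈ Λ, h⁻¹ • v ∈ Λ}
      one_mem' := ⟨fun v hv => by rwa [one_smul], fun v hv => by rwa [inv_one, one_smul]⟩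
      mul_mem' := fun {a b} ha hb => ⟨fun v hv => by
          rw [mul_smul]
          exact ha.1 _ (hb.1 v hv), fun v hv => by
          rw [mul_inv_rev, mul_smul]
          exact hb.2 _ (ha.2 v hv)⟩
      inv_mem' := fun {a} ha => ⟨ha.2, fun v hv => by
          rw [inv_inv]
          exact ha.1 v hv⟩ }
  have hNY : N ≤ Y := fun n hn => ⟨hΛN n hn, hΛN _ (inv_mem hn)⟩
  have hY : (⊤ : Subgroup H) ≤ Y := by
    refine Cfsg.Agent.MinSimple.MinParabolic.le_of_forall (S := T) le_top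
      (inf_le_right.trans (hTN.trans hNY)) fun P hP _ => ?_
    by_cases hPm : ∃ z : M, (∀ t ∈ T, t • z = z) ∧ ∃ p ∈ P, p • z ≠ z
    · exact (hpar P hP hPm).trans hNY
    push Not at hPm
    have hdec : ∀ p ∈ P, ∃ h ∈ P ⊓ H₁, ∃ t ∈ T, p = h * t := by
      intro p hp
      have h1 : p ∈ H₁ ⊔ T := hsup ▸ mem_top p
      obtain ⟨h, hh, t, ht, rfl⟩ := Subgroup.mem_sup_of_normal_left.1 h1
      refine ⟨h, ⟨?_, hh⟩, t, ht, rfl⟩
      have := mul_mem hp (inv_mem (hP.le ht))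
      rwa [mul_inv_cancel_right] at this
    have hTP : T ≤ normalizer ((P ⊓ H₁ : Subgroup H) : Set H) := by
      intro t ht
      have h1 : T ≤ normalizer (P : Set H) := hP.le.trans le_normalizer
      have h2 := mem_normalizer_iff.1 (h1 ht)
      rw [mem_normalizer_iff]
      intro y
      have h3 : y ∈ H₁ ↔ t * y * t⁻¹ ∈ H₁ := by
        constructor
        · intro hy
          exact hn.conj_mem y hy t
        · intro hy
          have := hn.conj_mem _ hy t⁻¹
          have e : t⁻¹ * (t * y * t⁻¹) * t⁻¹⁻¹ = y := by group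
          rwa [e] at this
      rw [mem_inf, mem_inf, ← h3, ← h2 y]
    have hle : T₁ ≤ P ⊓ H₁ := le_inf (inf_le_left.trans hP.le) inf_le_right
    have hodd : ¬ 2 ∣ T₁.relIndex (P ⊓ H₁) := by
      have e1 : T₁.relIndex (P ⊓ H₁) = T.relIndex (P ⊓ H₁) := by
        rw [← Subgroup.inf_relIndex_right T₁, ← Subgroup.inf_relIndex_right T]
        congr 1
        apply le_antisymm
        · exact inf_le_inf_right _ inf_le_left
        · exact le_inf (le_inf inf_le_left (inf_le_right.trans inf_le_right)) inf_le_right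
      rw [e1, ← relIndex_sup_of_le hTP]
      exact fun hd => hTi (hd.trans (Subgroup.relIndex_dvd_index_of_le le_sup_left))
    have hfix := fix_of_trace sq hT hle hodd hTP hT1 (fun z hz p hp => hPm z hz p hp.1)
      (fun t ht v hv => hΛN t (hT1 ht) v hv) hΛT
    have hPΛ : ∀ p ∈ P, ∀ v ∈ Λ, p • v ∈ Λ := by
      intro p hp v hv
      obtain ⟨h, hh, t, ht, rfl⟩ := hdec p hp
      rw [mul_smul, hfix h hh _ (hΛN t (hT1 ht) v hv)]
      exact hΛN t (hT1 ht) v hv
    exact fun p hp => ⟨hPΛ p hp, hPΛ _ (inv_mem hp)⟩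
  intro z hz h t ht ht'
  refine hΛT t ⟨ht, ht'⟩ _ ((hY (mem_top h)).1 _ (subset_closure ⟨1, one_mem _, z, hz, (one_smul _ _).symm⟩))

end Step

/-! ### Inside a group -/

section Sub

variable {G : Type*} [Group G]

theorem le_normalizer_of [Finite G] {A B : Subgroup G} (h : ∀ a ∈ A, ∀ b ∈ B, a * b * a⁻¹ ∈ B) :
    A ≤ normalizer (B : Set G) := by
  intro a ha
  rw [mem_normalizer_iff]
  intro b
  refine ⟨fun hb => h a ha b hb, fun hb => ?_⟩
  have := h _ (inv_mem ha) _ hb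
  have e : a⁻¹ * (a * b * a⁻¹) * a⁻¹⁻¹ = b := by group
  rwa [e] at this

end Sub

end Cfsg.Agent.Omega.NOThreeL.RZ.TwoC.LemT

end

-- merged: Cfsg.Agent.Mrg.Omega.KL.StarR.Alt
section

section


/-!
# The nonsplit case of [R-z], side 1, `H = C_H(X) T` (helper878, bb #24731 (N2), helper162 LEMMA T1, #25374 [N])

`h : LB H M T A`; `X ≤ M` is `T`-invariant with `H = C_H(X) T`, `A` centralises `X`, `C_T(X)` centralises `Rm ≤ Y`,
some `T`-fixed vector of `Rm` is moved by `H`.  Every `T`-minimal `P` centralises `C_M(T)`, or `C_{Rm}(T)`, or lies in `Q`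
(and `A ≤ O₂(P)`), `Q` normalises `Rm`, `J`, and `Bad`: an element `d` of odd order of `Q` with `[[Y, d], [J, d]] = 1`
centralises `Y`.

* `odd_of` : `O(H') = 1` for the irreducible section;
* **`AltIn.false_of`** : this is impossible (`MLK`, `Ext`).
-/

set_option autoImplicit false

namespace Cfsg.Agent.Omega.KL.StarR.Alt

open Subgroup Cfsg Cfsg.Agent.ZN Cfsg.Agent.ClassTwoFusion.Quad
open Cfsg.Agent.Omega.ML.MinFrame hiding comm_of_sq
open Cfsg.Agent.Omega.ML.Final Cfsg.Agent.Omega.NO3S.EMany.Low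
open Cfsg.Agent.Omega.KL.Star.Core Cfsg.Agent.Omega.KL.Star.Mix Cfsg.Agent.Omega.KL.StarQ
open Cfsg.Agent.MinSimple.VModule (o2_isPGroup o2_le le_o2 le_normalizer_o2 o2_le_of_sylow oddGen oddGen_le oddGen_def
  mem_oddGen)
open Cfsg.Agent.MinSimple.MinParabolic (IsMinPar le_of_forall)

universe u v

/-- **The input** (over `LB H M T A`). -/
structure AltIn (H : Type u) [Group H] (M : Type v) [Group M] [MulDistribMulAction H M] (T A J Q : Subgroup H)
    (X Rm Y : Subgroup M) : Prop where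
  TX : ∀ t ∈ T, ∀ w ∈ X, t • w ∈ X
  sup : fxr H X ⊔ T = ⊤
  alt : ∀ t ∈ T, (∀ w ∈ X, t • w = w) → ∀ w ∈ Rm, t • w = w
  AX : ∀ a ∈ A, ∀ w ∈ X, a • w = w
  RY : Rm ≤ Y
  NQ : normalizer (T : Set H) ≤ Q
  QR : ∀ q ∈ Q, ∀ w ∈ Rm, q • w ∈ Rm
  QJ : Q ≤ normalizer (J : Set H)
  JT : J ≤ T
  /-- a `T`-minimal `P` centralises `C_M(T)`, or `C_{Rm}(T)`, or is in `Q` -/
  par : ∀ P : Subgroup H, IsMinPar T P → (∀ m : M, (∀ t ∈ T, t • m = m) → ∀ p ∈ P, p • m = m) ∨
    (∀ m ∈ Rm, (∀ t ∈ T, t • m = m) → ∀ p ∈ P, p • m = m) ∨ (A ≤ o2 P ∧ P ≤ Q)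
  bad : ∀ d ∈ Q, Odd (orderOf d) → (∀ j ∈ J, ∀ w ∈ Y, (j * d * j⁻¹ * d⁻¹) • ((d • w) * w⁻¹) = (d • w) * w⁻¹) →
    ∀ w ∈ Y, d • w = w
  mv : ∃ z ∈ Rm, (∀ t ∈ T, t • z = z) ∧ ¬ ∀ g : H, g • z = z

section

variable {H : Type u} [Group H] [Finite H] {M : Type v} [Group M] [Finite M] [MulDistribMulAction H M]
  {T A J Q : Subgroup H} {X Rm Y : Subgroup M}

/-- **`O(H') = 1`** -/
theorem odd_of (h : LB H M T A) (hM : MLK.{u, v}) (i : AltIn H M T A J Q X Rm Y)
    {H' : Type u} [Group H'] [Finite H'] {N : Type v} [Group N] [Finite N] [MulDistribMulAction H' N]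
    {π : H →* H'} {f : ↥(cmm M A) →* N} {B : Subgroup H'} (o : Out H M T A H' N π f B)
    (nmax : ¬ ∃ L : Subgroup H', L ≠ ⊤ ∧ ∀ R : Subgroup H', T.map π ≤ R → R ≠ ⊤ → R ≤ L) :
    ∀ K : Subgroup H', K.Normal → Odd (Nat.card K) → K = ⊥ := by
  intro K hK hKo
  obtain ⟨z, hzR, tz, mz⟩ := i.mv
  obtain ⟨z1, hz1, hzs⟩ := h.shift tz
  have tz1 : ∀ t ∈ T, t • z1 = z1 := fun t ht => (hzs t).2 (tz t ht)
  have mz1 : ¬ ∀ g : H, g • z1 = z1 := fun hc => mz fun g => (hzs g).1 (hc g)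
  have him : ∀ {m : M} (hm : m ∈ cmm M A) {g : H}, g • m = m → π g • f ⟨m, hm⟩ = f ⟨m, hm⟩ := by
    intro m hm g hg
    rw [← o.eqv g ⟨m, hm⟩]
    exact congrArg f (Subtype.ext hg)
  have nz1 : f ⟨z1, hz1⟩ ≠ 1 := fun h1 => mz1 fun g => h.fix_of_cvKm tz1 ((o.ker _).1 h1) g
  -- the kernel of `π` centralises `U¹`
  have hkz' : ∀ k ∈ π.ker ⊔ T, k • z1 = z1 := by
    refine h.fix_of_mod tz1 le_sup_right (I := cv M (Km A : Set H))
      (fun w hw tw g _ => h.fix_of_cvKm tw hw g) fun k hk => ?_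
    have h1 : π k • f ⟨z1, hz1⟩ = f ⟨z1, hz1⟩ := by
      obtain ⟨k1, hk1, s, hs', rfl⟩ := mem_sup_of_normal_left.1 hk
      rw [map_mul, (MonoidHom.mem_ker).1 hk1, one_mul]
      exact him hz1 (tz1 s hs')
    rw [← o.eqv k ⟨z1, hz1⟩, ← mul_inv_eq_one, ← map_inv, ← map_mul, o.ker] at h1
    exact h1
  have hkU : ∀ k ∈ π.ker, ∀ w ∈ cmm M A, k • w = w := by
    intro k hk w hw
    have h1 : k ∈ fxr H (orb (⊤ : Subgroup H) z1) := by
      rw [mem_fxr_orb]
      intro s _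
      have h2 := hkz' (s⁻¹ * k * s) (mem_sup_left (by
        have := (inferInstance : (π.ker).Normal).conj_mem k hk s⁻¹
        rwa [inv_inv] at this))
      rwa [mul_smul, mul_smul, inv_smul_eq_iff] at h2
    exact h1 w (h.cmm_le hM tz1 mz1 hw)
  -- `K ≤ π(Q)`
  have hKX : K ≤ Q.map π := by
    have hle : K ⊔ T.map π ≤ Q.map π := by
      refine le_of_forall le_sup_right ?_ ?_
      · rintro ν ⟨-, hν⟩
        obtain ⟨_, ⟨t, ht, rfl⟩, n, hn, rfl⟩ := KL.GenTool.exists_normalizer_map π o.πs h.two h.syl hν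
        exact mul_mem ⟨t, i.NQ (le_normalizer ht), rfl⟩ ⟨n, i.NQ hn, rfl⟩
      · intro P' hP' hPK
        obtain ⟨P, hP, rfl⟩ := KL.GenTool.exists_minPar_map π o.πs hP'
        obtain ⟨hn1, hn2⟩ := inf_normal o.lb nmax hK hKo hP'.le hPK
        have hno : (∀ p ∈ P, p • z = z) → False := by
          intro hPz
          have h6 := bot_of_fix o.faith o.irr hn1 nz1 fun n hn => by
            obtain ⟨q, hq, rfl⟩ := hn.1
            exact him hz1 ((hzs q).2 (hPz q hq))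
          rw [h6, bot_sup_eq] at hn2
          exact hP'.ne hn2
        rcases i.par P hP with h1 | h1 | h1
        · exact (hno (h1 z tz)).elim
        · exact (hno (h1 z hzR tz)).elim
        · exact map_mono h1.2
    exact le_sup_left.trans hle
  refine bot_of_fix o.faith o.irr hK nz1 fun κ hκ => ?_
  obtain ⟨g, hg, rfl⟩ := hKX hκ
  -- the odd part of `g`
  obtain ⟨a, m, hm, ha⟩ := Nat.exists_eq_pow_mul_and_not_dvd (orderOf_pos g).ne' 2 (by norm_num)
  have hm' : Odd m := Nat.not_even_iff_odd.1 fun h => hm h.two_dvd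
  have hgo : orderOf (g ^ 2 ^ a) = m := by
    rw [orderOf_pow_of_dvd (by positivity) (ha ▸ Dvd.intro _ rfl), ha, Nat.mul_div_cancel_left _ (by positivity)]
  have hgo' : Odd (orderOf (g ^ 2 ^ a)) := hgo ▸ hm'
  have hgK : π (g ^ 2 ^ a) ∈ K := by
    rw [map_pow]
    exact K.pow_mem hκ _
  have hgQ : g ^ 2 ^ a ∈ Q := Q.pow_mem hg _
  have hgA : g ^ 2 ^ a ∈ Km A := mem_of_odd h.two h.gen hgo'
  have hfix : ∀ w ∈ Y, g ^ 2 ^ a • w = w := by
    refine i.bad _ hgQ hgo' fun j hj w hw => ?_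
    refine hkU _ ?_ _ (mem_cmm hgA w)
    rw [MonoidHom.mem_ker]
    refine eq_one_of_odd hKo (Q := J.map π) ((h.two.to_le i.JT).map π) ?_ ?_
    · rw [map_mul, map_mul, map_mul, map_inv, map_inv]
      exact K.mul_mem (hK.conj_mem _ hgK _) (K.inv_mem hgK)
    · refine ⟨j * (g ^ 2 ^ a) * j⁻¹ * (g ^ 2 ^ a)⁻¹, ?_, rfl⟩
      have h1 := (mem_normalizer_iff.1 (i.QJ hgQ) j⁻¹).1 (J.inv_mem hj)
      have e : j * (g ^ 2 ^ a) * j⁻¹ * (g ^ 2 ^ a)⁻¹ = j * ((g ^ 2 ^ a) * j⁻¹ * (g ^ 2 ^ a)⁻¹) := by group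
      rw [SetLike.mem_coe, e]
      exact J.mul_mem hj h1
  have h1 : π g ^ 2 ^ a • f ⟨z1, hz1⟩ = f ⟨z1, hz1⟩ := by
    rw [← map_pow]
    exact him hz1 ((hzs _).2 (hfix z (i.RY hzR)))
  have h2 : (2 ^ a).Coprime (orderOf (π g)) := by
    have h3 : orderOf (π g) ∣ Nat.card K := by
      have := orderOf_dvd_natCard (⟨π g, hκ⟩ : K)
      rwa [orderOf_mk] at this
    exact Nat.Coprime.pow_left a (Nat.coprime_two_left.mpr (hKo.of_dvd_nat h3))
  obtain ⟨j, hj⟩ := exists_pow_eq_self_of_coprime h2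
  have h3 : (π g ^ 2 ^ a) ^ j ∈ MulAction.stabilizer H' (f ⟨z1, hz1⟩) := pow_mem h1 j
  rw [hj] at h3
  exact h3

/-- **The case `H = C_H(X) T` is impossible.** -/
theorem AltIn.false_of (h : LB H M T A) (hM : MLK.{u, v}) (hE : ML.Ex.Two.Ext.{u, v})
    (i : AltIn H M T A J Q X Rm Y) : False := by
  obtain ⟨z, hzR, tz, mz⟩ := i.mv
  -- `H` is not `T`-minimal
  have nm : ¬ IsMinPar T (⊤ : Subgroup H) := by
    intro hP
    rcases i.par ⊤ hP with h1 | h1 | h1
    · exact mz fun g => h1 z tz g (mem_top g)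
    · exact mz fun g => h1 z hzR tz g (mem_top g)
    · exact h.nb h1.1
  -- no `P` moves one and fixes `z`
  have hex : ∀ P : Subgroup H, T ≤ P → ∀ m : M, (∀ t ∈ T, t • m = m) → (∃ p ∈ P, p • m ≠ m) →
      (∀ p ∈ P, p • z = z) → False := by
    intro P hTP m tm hmv hPz
    obtain ⟨H', i1, i2, N, i3, i4, i5, π, f, A', x', y', o, s⟩ := exists_sysV h hM tm tz mz ⟨P, hTP, hmv, hPz⟩ nm
    exact hE H' N (T.map π) A' x' y' (s.sysT (odd_of h hM i o s.nmax))
  -- `X` is `H`-invariant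
  have hXi : ∀ g : H, ∀ w ∈ X, g • w ∈ X := by
    have h1 : (⊤ : Subgroup H) ≤ { carrier := {g : H | ∀ w : M, g • w ∈ X ↔ w ∈ X}
                                   one_mem' := fun w => by rw [one_smul]
                                   mul_mem' := fun {a b} ha hb w => by rw [mul_smul, ha, hb]
                                   inv_mem' := fun {a} ha w => by rw [← ha, smul_inv_smul] } := by
      rw [← i.sup]
      refine sup_le (fun g hg w => ?_) (fun t ht w => ?_)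
      · refine ⟨fun h2 => ?_, fun h2 => by rw [hg w h2]; exact h2⟩
        have h3 := (fxr H X).inv_mem hg _ h2
        rw [inv_smul_smul] at h3
        rw [h3]
        exact h2
      · refine ⟨fun h2 => ?_, i.TX t ht w⟩
        have h3 := i.TX t⁻¹ (T.inv_mem ht) _ h2
        rwa [inv_smul_smul] at h3
    exact fun g w hw => (h1 (mem_top g) w).2 hw
  have hn : (fxr H X).Normal := fxr_normal hXi
  -- the hypothesis of LEMMA T1
  have hpar : ∀ P : Subgroup H, IsMinPar T P → (∃ z : M, (∀ t ∈ T, t • z = z) ∧ ∃ p ∈ P, p • z ≠ z) →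
      P ≤ normalizer ((T ⊓ fxr H X : Subgroup H) : Set H) := by
    rintro P hP ⟨m, tm, hmv⟩
    have hPz : ¬ ∀ p ∈ P, p • z = z := fun h1 => hex P hP.le m tm hmv h1
    have hPQ : A ≤ o2 P ∧ P ≤ Q := by
      rcases i.par P hP with h1 | h1 | h1
      · exact (hPz (h1 z tz)).elim
      · exact (hPz (h1 z hzR tz)).elim
      · exact h1
    have hsylP : ¬ 2 ∣ T.relIndex P := fun h1 => h.syl (h1.trans (relIndex_dvd_index_of_le hP.le))
    -- `C_P(Rm)`
    have hcn : P ≤ normalizer ((P ⊓ fxr H Rm : Subgroup H) : Set H) := by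
      have key : ∀ p ∈ P, ∀ g ∈ P ⊓ fxr H Rm, p * g * p⁻¹ ∈ P ⊓ fxr H Rm := fun p hp g hg =>
        ⟨P.mul_mem (P.mul_mem hp hg.1) (P.inv_mem hp),
          conj_mem_fxr (R := P) (fun g hg m hm => i.QR g (hPQ.2 hg) m hm) hp hg.2⟩
      intro p hp
      rw [mem_normalizer_iff]
      intro g
      refine ⟨fun hg => key p hp g hg, fun hg => ?_⟩
      have h5 := key p⁻¹ (P.inv_mem hp) _ hg
      have e : p⁻¹ * (p * g * p⁻¹) * p⁻¹⁻¹ = g := by group
      rwa [e] at h5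
    rcases hP.sup_eq_or_inf_le h.two hsylP (N := P ⊓ fxr H Rm) inf_le_left hcn with h1 | h1
    · refine (hPz fun p hp => ?_).elim
      rw [← h1] at hp
      have h2 : (P ⊓ fxr H Rm) ⊔ T ≤ MulAction.stabilizer H z :=
        sup_le (fun g hg => hg.2 z hzR) fun t ht => tz t ht
      exact h2 hp
    · have h2 : T ⊓ fxr H X ≤ o2 P := by
        refine le_trans (le_inf inf_le_left (le_inf (inf_le_left.trans hP.le) ?_)) h1
        exact fun t ht => i.alt t ht.1 ht.2
      have h3 : o2 P ≤ T := o2_le_of_sylow h.two hsylP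
      have h4 : T ⊓ fxr H X = o2 P ⊓ fxr H X :=
        le_antisymm (le_inf h2 inf_le_right) (inf_le_inf_right _ h3)
      rw [h4]
      intro p hp
      have h5 := mem_normalizer_iff.1 (le_normalizer_o2 P hp)
      rw [mem_normalizer_iff]
      intro g
      constructor
      · rintro ⟨h6, h7⟩
        exact ⟨(h5 g).1 h6, hn.conj_mem g h7 p⟩
      · rintro ⟨h6, h7⟩
        refine ⟨(h5 g).2 h6, ?_⟩
        have h8 := hn.conj_mem _ h7 p⁻¹
        have e : p⁻¹ * (p * g * p⁻¹) * p⁻¹⁻¹ = g := by group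
        rwa [e] at h8
  have hT := NOThreeL.RZ.TwoC.LemT.lemT (M := M) h.sq hn h.two h.syl i.sup hpar
  -- `A` centralises `⟨z^H⟩`
  apply h.nb
  refine le_trans (le_inf ?_ le_rfl) (h.fxr_inf_le tz mz)
  intro a ha
  rw [mem_fxr_orb]
  exact fun g _ => hT z tz g a (h.BT ha) (i.AX a ha)

end

end Cfsg.Agent.Omega.KL.StarR.Alt

end

section


/-!
# The nonsplit case of [R-z], side 1 (helper878, bb #24731, #25243 (6), #25374 [N])

`T` a Sylow 2-subgroup of `H`, `Z ≤ Rm` is fixed by `T`, `X ∩ Rm = 1`, `X, Rm ≤ Y`, `C_T(X)` centralises `Rm`, every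
`T`-minimal `P` centralises `C_M(T)`, or `C_{Rm}(T)`, or `P ≤ Q` and `A, J ≤ O₂(P)`; `Q` normalises `X`, `Rm`, `J`; `Bad`
for `Y`; `A` is an exact atom, `A ≰ O₂(H)`, `A ≤ O₂(C_H(Z))`, `A ≤ C_H(X)`: `InpN T A J Q Z X Rm Y`.

* **`InpN.false_of`** : this is impossible (`MLK`, `RedP`, `Ext`): for the minimal overgroup `L` of `T` with `A ≰ O₂(L)`
  either `L = C_L(X) T` (`AltIn.false_of`) or KL* with the object `X` (`exists_sysN`).
-/

set_option autoImplicit false

namespace Cfsg.Agent.Omega.KL.StarR.Alt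

open Subgroup Cfsg Cfsg.Agent.ZN Cfsg.Agent.ClassTwoFusion.Quad
open Cfsg.Agent.Omega.ML.MinFrame hiding comm_of_sq
open Cfsg.Agent.Omega.ML.Final Cfsg.Agent.Omega.NO3S.EMany.Low
open Cfsg.Agent.Omega.KL.Star.Core
open Cfsg.Agent.Omega.KL.StarQ (exists_min)
open Cfsg.Agent.Omega.NO3b.EndX (RedP)
open Cfsg.Agent.MinSimple.VModule (o2_isPGroup o2_le le_o2 le_normalizer_o2 o2_le_of_sylow oddGen oddGen_le oddGen_def)
open Cfsg.Agent.MinSimple.MinParabolic (IsMinPar le_of_forall)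

universe u v

/-- **The input.** -/
structure InpN {H : Type u} [Group H] {M : Type v} [Group M] [MulDistribMulAction H M] (T A J Q : Subgroup H)
    (Z X Rm Y : Subgroup M) : Prop where
  sq : ∀ m : M, m * m = 1
  two : IsPGroup 2 T
  syl : ¬ 2 ∣ T.index
  tZ : ∀ z ∈ Z, ∀ t ∈ T, t • z = z
  NZ : ∀ g ∈ normalizer (T : Set H), ∀ z ∈ Z, g • z ∈ Z
  ZR : Z ≤ Rm
  NQ : normalizer (T : Set H) ≤ Q
  QX : ∀ q ∈ Q, ∀ w ∈ X, q • w ∈ X
  QR : ∀ q ∈ Q, ∀ w ∈ Rm, q • w ∈ Rm
  QJ : Q ≤ normalizer (J : Set H)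
  JT : J ≤ T
  XR : X ⊓ Rm = ⊥
  XY : X ≤ Y
  RY : Rm ≤ Y
  alt : ∀ t ∈ T, (∀ w ∈ X, t • w = w) → ∀ w ∈ Rm, t • w = w
  /-- a `T`-minimal `P` centralises `C_M(T)`, or `C_{Rm}(T)`, or lies in `Q` and `A, J ≤ O₂(P)` -/
  par : ∀ P : Subgroup H, IsMinPar T P → (∀ m : M, (∀ t ∈ T, t • m = m) → ∀ p ∈ P, p • m = m) ∨
    (∀ m ∈ Rm, (∀ t ∈ T, t • m = m) → ∀ p ∈ P, p • m = m) ∨ (A ≤ o2 P ∧ J ≤ o2 P ∧ P ≤ Q)
  bad : ∀ d ∈ Q, Odd (orderOf d) → (∀ j ∈ J, ∀ w ∈ Y, (j * d * j⁻¹ * d⁻¹) • ((d • w) * w⁻¹) = (d • w) * w⁻¹) →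
    ∀ w ∈ Y, d • w = w
  el : ∀ a ∈ A, a * a = 1
  exact : (cv M (A : Set H)).index = Nat.card A
  atom : ∀ C : Subgroup H, C ≤ A → C ≠ ⊥ → C ≠ A → Nat.card C < (cv M (C : Set H)).index
  nA : ¬ A ≤ o2 (⊤ : Subgroup H)
  AZ : A ≤ o2 (fxr H Z)
  AX : ∀ a ∈ A, ∀ w ∈ X, a • w = w
  KH : IsKGroup H

namespace InpN

variable {H : Type u} [Group H] [Finite H] {M : Type v} [Group M] [Finite M] [MulDistribMulAction H M]
  {T A J Q : Subgroup H} {Z X Rm Y : Subgroup M}

omit [Finite M] in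
theorem AT (i : InpN T A J Q Z X Rm Y) : A ≤ T :=
  i.AZ.trans (o2_le_of_sylow i.two fun h2 => i.syl (h2.trans (relIndex_dvd_index_of_le fun t ht z hz => i.tZ z hz t ht)))

/-- **The nonsplit case, side 1.** -/
theorem false_of (i : InpN T A J Q Z X Rm Y) (hM : MLK.{u, v}) (hR : RedP.{u, v}) (hE : ML.Ex.Two.Ext.{u, v}) :
    False := by
  obtain ⟨L, hTL, hAL, hlb, hNN⟩ := exists_min i.sq i.two i.syl i.AT i.el i.exact i.atom i.nA i.KH
  have hAT := i.AT
  have hAL' : A ≤ L := hAT.trans hTL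
  -- a `T`-minimal subgroup of `L` which moves `Z`
  obtain ⟨P, hPm, hPZ⟩ : ∃ P : Subgroup L, IsMinPar (T.subgroupOf L) P ∧
      ¬ ∀ z ∈ Z, ∀ p ∈ P, p • z = z := by
    by_contra hc
    push Not at hc
    apply hAL
    -- `C_L(Z)` is normal in `L`
    let F : Subgroup H := fxr H Z ⊓ L
    have hTF : T ≤ F := le_inf (fun t ht z hz => i.tZ z hz t ht) hTL
    have h1 : (⊤ : Subgroup L) ≤ (normalizer (F : Set H)).subgroupOf L := by
      refine le_of_forall (S := T.subgroupOf L) le_top (fun g hg => ?_) fun P hP _ p hp => ?_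
      · rw [mem_subgroupOf]
        have hg1 := hNN g hg.2
        have hconj : ∀ k : H, k ∈ normalizer (T : Set H) → k ∈ L → ∀ w ∈ F, k * w * k⁻¹ ∈ F := by
          intro k hk hkL w hw
          refine ⟨fun z hz => ?_, L.mul_mem (L.mul_mem hkL hw.2) (L.inv_mem hkL)⟩
          have h2 := hw.1 _ (i.NZ k⁻¹ (inv_mem hk) z hz)
          rw [mul_smul, mul_smul, h2, smul_inv_smul]
        rw [mem_normalizer_iff]
        intro w
        refine ⟨hconj g hg1 g.2 w, fun hw => ?_⟩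
        have h2 := hconj (g : H)⁻¹ (inv_mem hg1) (L.inv_mem g.2) _ hw
        have e : (g : H)⁻¹ * (g * w * (g : H)⁻¹) * (g : H)⁻¹⁻¹ = w := by group
        rwa [e] at h2
      · rw [mem_subgroupOf]
        exact le_normalizer (show (p : H) ∈ F from ⟨fun z hz => hc P hP z hz p hp, p.2⟩)
    have h2 : L ≤ normalizer (F : Set H) := fun g hg => h1 (mem_top (⟨g, hg⟩ : L))
    exact (le_inf i.AZ (hAT.trans hTF)).trans
      ((InpG.o2_le_o2_of_le inf_le_left).trans (o2_le_o2 inf_le_right h2))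
  have hPQ : P ≤ Q.subgroupOf L := by
    rcases i.par _ (KL.GenTool.minPar_map_subtype hTL hPm) with h1 | h1 | ⟨-, -, h1⟩
    · exact (hPZ fun z hz p hp => h1 z (i.tZ z hz) _ ⟨p, hp, rfl⟩).elim
    · exact (hPZ fun z hz p hp => h1 z (i.ZR hz) (i.tZ z hz) _ ⟨p, hp, rfl⟩).elim
    · exact fun p hp => h1 ⟨p, hp, rfl⟩
  push Not at hPZ
  obtain ⟨x, hxZ, p, hp, hpx⟩ := hPZ
  have htx : ∀ t ∈ T.subgroupOf L, t • x = x := fun t ht => i.tZ x hxZ _ ht
  have hQJ : Q.subgroupOf L ≤ normalizer ((J.subgroupOf L : Subgroup L) : Set L) := by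
    intro q hq
    have h1 := i.QJ (show (q : H) ∈ Q from hq)
    rw [mem_normalizer_iff] at h1 ⊢
    exact fun j => h1 j
  by_cases hsup : fxr L X ⊔ T.subgroupOf L = ⊤
  · -- (N2)
    refine AltIn.false_of (J := J.subgroupOf L) (Q := Q.subgroupOf L) (X := X) (Rm := Rm) (Y := Y) hlb hM hE ?_
    exact
      { TX := fun t ht w hw => i.QX _ (i.NQ (le_normalizer ht)) w hw
        sup := hsup
        alt := fun t ht hw => i.alt _ ht hw
        AX := fun a ha w hw => i.AX _ ha w hw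
        RY := i.RY
        NQ := fun g hg => i.NQ (hNN g hg)
        QR := fun q hq w hw => i.QR _ hq w hw
        QJ := hQJ
        JT := fun j hj => i.JT hj
        par := by
          intro P' hP'
          rcases i.par _ (KL.GenTool.minPar_map_subtype hTL hP') with h1 | h1 | ⟨h1, -, h3⟩
          · exact Or.inl fun m hm q hq => h1 m (fun t ht => hm ⟨t, hTL ht⟩ ht) _ ⟨q, hq, rfl⟩
          · exact Or.inr (Or.inl fun m hmR hm q hq => h1 m hmR (fun t ht => hm ⟨t, hTL ht⟩ ht) _ ⟨q, hq, rfl⟩)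
          · exact Or.inr (Or.inr ⟨fun a ha => KL.GenTool.o2_subgroupOf_le P' (h1 ha), fun q hq => h3 ⟨q, hq, rfl⟩⟩)
        bad := by
          intro d hd hdo hcom w hw
          refine i.bad (d : H) hd (by rwa [orderOf_coe]) (fun j hj w hw => ?_) w hw
          exact hcom ⟨j, hTL (i.JT hj)⟩ hj w hw
        mv := ⟨x, i.ZR hxZ, htx, fun hc => hpx (hc p)⟩ }
  · -- (N1)
    have hY : ¬ ∀ g : L, Odd (orderOf g) → ∀ w ∈ X, g • w = w := by
      intro hc
      apply hsup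
      have h1 : oddGen (⊤ : Subgroup L) ⊔ T.subgroupOf L = ⊤ := oddGen_sup le_top fun h2 => hlb.syl (by rwa [relIndex_top_right] at h2)
      rw [eq_top_iff]
      calc (⊤ : Subgroup L) = oddGen (⊤ : Subgroup L) ⊔ T.subgroupOf L := h1.symm
        _ ≤ _ := by
          refine sup_le_sup_right ?_ _
          rw [oddGen_def, closure_le]
          rintro g ⟨-, hgo⟩ w hw
          exact hc g hgo w hw
    obtain ⟨H', i1, i2, N, i3, i4, i5, T', A', x', Y', h⟩ :=
      exists_sysN hlb hM htx (Y := X) (J := J.subgroupOf L) (Q := Q.subgroupOf L)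
        (fun g hg => i.NQ (hNN g hg)) (fun q hq w hw => i.QX _ hq w hw) hQJ (fun j hj => i.JT hj) hY
        (fun R hR => by
          rcases i.par _ (KL.GenTool.minPar_map_subtype hTL hR) with h1 | h1 | ⟨h1, h2, h3⟩
          · exact Or.inl fun q hq => h1 x (i.tZ x hxZ) _ ⟨q, hq, rfl⟩
          · exact Or.inl fun q hq => h1 x (i.ZR hxZ) (i.tZ x hxZ) _ ⟨q, hq, rfl⟩
          · exact Or.inr (Or.inr ⟨fun a ha => KL.GenTool.o2_subgroupOf_le R (h1 ha),
              fun a ha => KL.GenTool.o2_subgroupOf_le R (h2 ha), fun q hq => h3 ⟨q, hq, rfl⟩⟩))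
        ⟨P, hPm.le, ⟨p, hp, hpx⟩, fun g hg hgo y hy hgy => by
          have hgQ : (g : H) ∈ Q := hPQ hg
          have h1 : (g • x) * x⁻¹ ∈ Rm := Rm.mul_mem (i.QR _ hgQ x (i.ZR hxZ)) (Rm.inv_mem (i.ZR hxZ))
          have h2 : (g • x) * x⁻¹ = y * (g • y)⁻¹ := by
            have hcomm := ML.MinFrame.comm_of_sq i.sq
            rw [smul_mul'] at hgy
            have e1 : g • x = x * y * (g • y)⁻¹ := by rw [← hgy]; group
            rw [e1, hcomm x y]
            calc y * x * (g • y)⁻¹ * x⁻¹ = y * (x * (g • y)⁻¹) * x⁻¹ := by group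
              _ = y * ((g • y)⁻¹ * x) * x⁻¹ := by rw [hcomm x]
              _ = _ := by group
          have h3 : (g • x) * x⁻¹ ∈ X ⊓ Rm :=
            ⟨by rw [h2]; exact X.mul_mem hy (X.inv_mem (i.QX _ hgQ y hy)), h1⟩
          rw [i.XR, mem_bot] at h3
          exact mul_inv_eq_one.1 h3⟩
        (Or.inl (by
          intro d hd hdo hcom w hw
          refine i.bad (d : H) hd (by rwa [orderOf_coe]) (fun j hj w _ => ?_) w (i.XY hw)
          exact hcom ⟨j, hTL (i.JT hj)⟩ hj w))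
    obtain ⟨x'', y'', hm⟩ := h.exists_mv hR
    exact hE H' N T' A' x'' y'' (h.toSysB.sysT hm)

end InpN

end Cfsg.Agent.Omega.KL.StarR.Alt

end

end

private theorem dce_4927fa81db13 : _root_.True := by
  try have : _root_.True := by simp only [_root_.Cfsg.Agent.Omega.NOThreeL.RZ.TwoC.LemT.tr.eq_1]
  try have : _root_.True := by simp only [_root_.Cfsg.Agent.Omega.NOThreeL.RZ.TwoC.LemT.cosets.congr_simp]
  try have : _root_.True := by simp only [_root_.Cfsg.Agent.Omega.NOThreeL.RZ.TwoC.LemT.cosets.eq_1]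
  exact _root_.True.intro
end

-- part: Mrg/Omega/NOThreeL/RFourFrame
section
prune_inst 0xd0104300512200000000058011002040140000920060000080000540000805008040010000001410100a2a14083c0000020c00c00000000000000800011801800028000000000104000000800084000000000000000000000000000000000004000000000
set_option linter.all false
open scoped Cfsg.Agent.FastGrp


/-!
# NO-3L, socket R: (R4) of #15623 (helper691) in the frame

`P ∈ P*(S)`, `V = V_P`, `V / C_V(O²(P))` one natural `SL₂(F)`-module (`NatK F S P V (cv S P) 1`; no hypothesis on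
`E = C_Z(P)`), `H` a long group, `U = U_H` an offender on `V`. `Opp` : the elements of `P` which act as a matrix
with nonzero lower left entry ("opposite points"), `TT P U = ⋂ U^g` over `g ∈ P`.

* `comm_of_cent` : if `H` centralises `E = C_Z(P) ≠ 1` then `[V_P, U_H] = 1`;
* `HypR.inf_le` : `U ∩ U^h ≤ TT P U` for `h ∈ Opp`; `HypR.inf_le'` : for `h ∈ P` with `Z^h` not in the line of `Z`;
* `rad` : `RFour.Rad P U V (TT P U) Opp`, so all of `RFour` applies (`[Y^g, Y^h] ≤ T`, `Y^g / T ≅ Y / T`);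
  `conj_mem_opp` : `g⁻¹ u g ∈ Opp` for `u ∈ U - Y`, `g ∈ Opp`;
* `TT_inf_zc` : `T ∩ Z = C_Z(P)`; `TT_eq` : `T = C_U(O²(P))`;
* `base_long` : (R5), the hypotheses of `RFour.Base` for two long groups;
* `lines_comm` : if `T ≤ Z`, then `[W_H, W_H^g] = 1` for `g ∈ Opp`, where `W_H` is the product of the lines on `Z`
  in `H`.
-/

set_option autoImplicit false

namespace Cfsg.Agent.Omega.NOThreeL.RFour

open Subgroup Cfsg Cfsg.Agent.ZN Cfsg.Agent.Omega.MinPar Cfsg.Agent.Omega.Frame Cfsg.Agent.Omega.FrameNOFF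
open Cfsg.Agent.Omega.Node.NO3L Cfsg.Agent.Omega.NOThreeL.Basic
open Cfsg.Agent.Omega.NoFF.Basic (conj_conj mem_conj conj_le_iff conj_le_centralizer comm_mono)
open Cfsg.Agent.Omega.NOThreeL.Pair (conj_eq_of_mem zl_abel)
open Cfsg.Agent.Omega.FFThm (Off NatK)
open Cfsg.Agent.Omega.FrameFF (cv NatOver)
open Cfsg.Agent.Omega.NatPair (ap ap_mul ap_one ap_inv_ap)
open Cfsg.Agent.Lib.SL2Mat
open Cfsg.Agent.MinSimple.VModule (zl_le le_normalizer_zl zc_le_zl zc_le zl_le_zc o2_isPGroup le_normalizer_o2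
  mem_zc oddGen oddGen_le mem_oddGen le_normalizer_oddGen oddGen_le_of_sup le_o2
  le_centralizer_zc)
open Cfsg.Agent.Omega.NOThreeL.AOne (Act mem_of_up ap_up_0)
open Cfsg.Agent.Omega.NOThreeL.ThmT (conj_eq_of_mem_normalizer mem_normalizer_of_forall)
open scoped Pointwise

universe u

/-! ### `⋂ U^g` -/

section tt

variable {G : Type u} [Group G]

/-- `⋂ U^g`, `g ∈ P` -/
def TT (P U : Subgroup G) : Subgroup G := ⨅ g : P, MulAut.conj (g : G) • U

end tt

/-! ### `U ∩ U^h ≤ ⋂ U^g` -/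

section key

variable {G : Type u} [Group G] {F : Type} [Field F]
variable {e : G → Fin 2 → F} {S P U V : Subgroup G}

/-- The hypotheses on `(S, P, U, V)`; no condition on the kernel of the coordinates. -/
structure HypR (e : G → Fin 2 → F) (S P U V : Subgroup G) : Prop where
  PV : P ≤ normalizer (V : Set G)
  SP : S ≤ P
  US : U ≤ S
  SU : S ≤ normalizer (U : Set G)
  DU : ∀ g ∈ P, Act e V g 1 → g ∈ normalizer (U : Set G)
  ab : U ≤ centralizer (U : Set G)
  norm : ∀ g ∈ P, ∀ h ∈ P, ∀ A, Act e V h A → ∃ B, Act e V (g * h * g⁻¹) B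
  up2 : ∀ b, ∃ u ∈ U, Act e V u (up b)
  gen : ∀ K : Subgroup G, S ≤ K → (∀ h ∈ P, ∀ A, Act e V h A → h ∈ K) → P ≤ K

/-- the elements of `P` moving the line to an opposite line -/
def Opp (e : G → Fin 2 → F) (P V : Subgroup G) : Set G :=
  {h | h ∈ P ∧ ∃ A : Matrix.SpecialLinearGroup (Fin 2) F, Act e V h A ∧ ent A 1 0 ≠ 0}

namespace HypR

variable (D : HypR e S P U V)
include D

theorem conj_le {g : G} (hg : g ∈ P) : MulAut.conj g • U ≤ P := by
  have h1 := (conj_le_iff (g := g)).2 (D.US.trans D.SP)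
  rwa [conj_eq_of_mem_normalizer (le_normalizer hg)] at h1

theorem sup_le' {h : G} (hh : h ∈ P) : U ⊔ MulAut.conj h • U ≤ P :=
  sup_le (D.US.trans D.SP) (D.conj_le hh)

/-- `⟨U, U^h⟩` induces `SL₂(F)` -/
theorem exists_act {h : G} (hh : h ∈ P) {A : Matrix.SpecialLinearGroup (Fin 2) F} (hA : Act e V h A)
    (hne : ent A 1 0 ≠ 0) (B : Matrix.SpecialLinearGroup (Fin 2) F) :
    ∃ k ∈ U ⊔ MulAut.conj h • U, Act e V k B := by
  have hV : ∀ k ∈ U ⊔ MulAut.conj h • U, k ∈ normalizer (V : Set G) := fun k hk => D.PV (D.sup_le' hh hk)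
  let K : Subgroup (Matrix.SpecialLinearGroup (Fin 2) F) :=
    { carrier := {x | ∃ k ∈ U ⊔ MulAut.conj h • U, Act e V k x}
      mul_mem' := by
        rintro x y ⟨k, hk, h1⟩ ⟨l, hl, h2⟩
        exact ⟨k * l, mul_mem hk hl, h1.mul h2 (hV l hl)⟩
      one_mem' := ⟨1, one_mem _, Act.one⟩
      inv_mem' := by
        rintro x ⟨k, hk, h1⟩
        exact ⟨k⁻¹, inv_mem hk, h1.inv (hV k hk)⟩ }
  have hu : ∀ b, up b ∈ K := fun b => by
    obtain ⟨u, hu, h1⟩ := D.up2 b
    exact ⟨u, le_sup_left (a := U) hu, h1⟩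
  have hc : ∀ b, A * up b * A⁻¹ ∈ K := fun b => by
    obtain ⟨u, hu, h1⟩ := D.up2 b
    refine ⟨h * u * h⁻¹, le_sup_right (a := U) (mem_conj_smul hu), ?_⟩
    exact (hA.mul h1 (D.PV (D.SP (D.US hu)))).mul (hA.inv (D.PV hh)) (inv_mem (D.PV hh))
  exact mem_of_up hu hne hc B

theorem conj_eq {g k : G} (hg : g ∈ P) (hk : k ∈ P) {B : Matrix.SpecialLinearGroup (Fin 2) F}
    (h1 : Act e V g B) (h2 : Act e V k B) : MulAut.conj g • U = MulAut.conj k • U := by
  have h3 : Act e V (k⁻¹ * g) 1 := by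
    have := (h2.inv (D.PV hk)).mul h1 (D.PV hg)
    rwa [inv_mul_cancel] at this
  have h4 : k⁻¹ * g ∈ P := P.mul_mem (P.inv_mem hk) hg
  have h5 := conj_eq_of_mem_normalizer (D.DU _ h4 h3)
  calc MulAut.conj g • U = MulAut.conj (k * (k⁻¹ * g)) • U := by rw [mul_inv_cancel_left]
    _ = MulAut.conj k • U := by rw [← conj_conj, h5]

/-- `P = I S`, `I` the elements acting as matrices -/
theorem exists_mul {g : G} (hg : g ∈ P) :
    ∃ i ∈ P, ∃ s ∈ S, (∃ A, Act e V i A) ∧ g = i * s := by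
  let K : Subgroup G :=
    { carrier := {g | ∃ i ∈ P, ∃ s ∈ S, (∃ A, Act e V i A) ∧ g = i * s}
      mul_mem' := by
        rintro _ _ ⟨i, hi, s, hs, ⟨A, hA⟩, rfl⟩ ⟨j, hj, t, ht, ⟨B, hB⟩, rfl⟩
        obtain ⟨B', hB'⟩ := D.norm s (D.SP hs) j hj B hB
        have h1 : s * j * s⁻¹ ∈ P := mul_mem (mul_mem (D.SP hs) hj) (inv_mem (D.SP hs))
        refine ⟨i * (s * j * s⁻¹), mul_mem hi h1, s * t, mul_mem hs ht, ⟨_, hA.mul hB' (D.PV h1)⟩, ?_⟩
        group
      one_mem' := ⟨1, one_mem _, 1, one_mem _, ⟨1, Act.one⟩, by group⟩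
      inv_mem' := by
        rintro _ ⟨i, hi, s, hs, ⟨A, hA⟩, rfl⟩
        have h0 := hA.inv (D.PV hi)
        obtain ⟨B', hB'⟩ := D.norm s⁻¹ (inv_mem (D.SP hs)) i⁻¹ (inv_mem hi) _ h0
        have h1 : s⁻¹ * i⁻¹ * s⁻¹⁻¹ ∈ P :=
          mul_mem (mul_mem (inv_mem (D.SP hs)) (inv_mem hi)) (inv_mem (inv_mem (D.SP hs)))
        refine ⟨_, h1, s⁻¹, inv_mem hs, ⟨_, hB'⟩, ?_⟩
        group }
  have h1 : P ≤ K := D.gen K (fun s hs => ⟨1, one_mem _, s, hs, ⟨1, Act.one⟩, (one_mul s).symm⟩)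
    fun h hh A hA => ⟨h, hh, 1, one_mem _, ⟨A, hA⟩, (mul_one h).symm⟩
  exact h1 hg

theorem inf_le {h : G} (hh : h ∈ Opp e P V) : U ⊓ MulAut.conj h • U ≤ TT P U := by
  obtain ⟨hhP, A, hA, hne⟩ := hh
  set T := U ⊓ MulAut.conj h • U with hT
  have hcen : ∀ t ∈ T, ∀ k ∈ U ⊔ MulAut.conj h • U, k * t = t * k := by
    intro t ht k hk
    have h1 : U ⊔ MulAut.conj h • U ≤ centralizer (T : Set G) :=
      sup_le (D.ab.trans (centralizer_le inf_le_left))
        ((conj_le_centralizer D.ab).trans (centralizer_le inf_le_right))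
    exact (mem_centralizer_iff.mp (h1 hk) t ht).symm
  intro t ht
  refine mem_iInf.2 fun g => ?_
  obtain ⟨i, hi, s, hs, ⟨B, hB⟩, hg⟩ := D.exists_mul g.2
  obtain ⟨k, hk, hkB⟩ := D.exists_act hhP hA hne B
  rw [hg, ← conj_conj, conj_eq_of_mem_normalizer (D.SU hs), D.conj_eq hi (D.sup_le' hhP hk) hB hkB, mem_conj]
  have e1 : k⁻¹ * t * k = t := by rw [mul_assoc, ← hcen t ht k hk, inv_mul_cancel_left]
  rw [e1]
  exact (mem_inf.mp ht).1

/-- `U^g = U^i` for some `i ∈ Opp`, if `g` moves an element `z` of the centre of `S` off the line. -/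
theorem exists_opp {g z : G} (hg : g ∈ P) (hz : z ∈ V) (hzS : ∀ s ∈ S, s * z = z * s)
    (h : e (g * z * g⁻¹) 1 ≠ 0) : ∃ i ∈ Opp e P V, ∃ s ∈ S, g = i * s := by
  obtain ⟨i, hi, s, hs, ⟨B, hB⟩, rfl⟩ := D.exists_mul hg
  refine ⟨i, ⟨hi, B, hB, fun h0 => h ?_⟩, s, hs, rfl⟩
  have e1 : i * s * z * (i * s)⁻¹ = i * z * i⁻¹ := by
    have e2 : s * z * s⁻¹ = z := by rw [hzS s hs, mul_inv_cancel_right]
    calc i * s * z * (i * s)⁻¹ = i * (s * z * s⁻¹) * i⁻¹ := by group
      _ = _ := by rw [e2]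
  -- the second coordinate of `z` is zero
  have h1 : e z 1 = 0 := by
    obtain ⟨u, hu, hu1⟩ := D.up2 1
    have h2 := hu1 z hz
    rw [hzS u (D.US hu), mul_inv_cancel_right] at h2
    have h3 := congrFun h2 0
    rw [ap_up_0, one_mul] at h3
    exact left_eq_add.mp h3
  rw [e1, hB z hz, NatPair.ap_eq_mulVec, Matrix.mulVec, dotProduct, Fin.sum_univ_two]
  change ent B 1 0 * e z 0 + ent B 1 1 * e z 1 = 0
  rw [h0, h1, zero_mul, mul_zero, add_zero]

end HypR

end key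

/-! ### The frame -/

section frame

variable {G : Type u} [Group G] [Finite G] {F : Type} [Field F]
variable (hc : IsCharacteristicTwoType G) (S : Sylow 2 G) {P H : Subgroup G}

include hc in
/-- an element of `P` which centralises `V / C_V(O²(P))` centralises `V` -/
theorem mem_centralizer_of_act [Finite F] [CharP F 2] (hP : IsParS (S : Subgroup G) P)
    (M : NatOver F P (zl (S : Subgroup G) P) (cv (S : Subgroup G) P)) {g : G} (hg : g ∈ P)
    (h : Act M.e (zl (S : Subgroup G) P) g 1) : g ∈ centralizer (zl (S : Subgroup G) P : Set G) := by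
  have hk : g ∈ (HOne.sec M).kern := by
    rw [(HOne.sec M).mem_kern_iff hg]
    intro v hv
    have hgv : g * v * g⁻¹ ∈ zl (S : Subgroup G) P :=
      (mem_normalizer_iff.1 (le_normalizer_zl _ _ hg) v).1 hv
    rw [← M.ker _ (mul_mem hgv (inv_mem hv)), M.mul _ hgv _ (inv_mem hv), h v hv, ap_one,
      ← M.mul _ hv _ (inv_mem hv), mul_inv_cancel]
    exact (M.ker 1 (one_mem _)).2 (one_mem _)
  set C : Subgroup G := centralizer (zl (S : Subgroup G) P : Set G) with hC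
  obtain ⟨a, m, hm, ha⟩ := Nat.exists_eq_pow_mul_and_not_dvd (orderOf_pos g).ne' 2 (by norm_num)
  have h1 : g ^ m ∈ C := by
    rw [hC, mem_centralizer_iff]
    intro v hv
    refine (HOne.comm_of_sec_two hc S hP M (pow_mem hg m) ⟨a, ?_⟩ (pow_mem hk m) v hv).symm
    rw [← pow_mul, mul_comm, ← ha, pow_orderOf_eq_one]
  have h2 : g ^ 2 ^ a ∈ C := by
    rw [hC, mem_centralizer_iff]
    intro v hv
    refine (HOne.ker_oddGen hc S hP M (mem_oddGen (pow_mem hg _) ?_) (pow_mem hk _) v hv).symm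
    have hm0 : 0 < m := Nat.pos_of_ne_zero (by rintro rfl; simp at hm)
    have h3 : orderOf (g ^ 2 ^ a) = m := by
      rw [orderOf_pow_of_dvd (by positivity) (ha ▸ Dvd.intro _ rfl), ha, Nat.mul_div_cancel_left _ (by positivity)]
    rw [h3]
    exact Nat.not_even_iff_odd.1 fun h => hm h.two_dvd
  have hco : Nat.Coprime m (2 ^ a) :=
    Nat.Coprime.pow_right a ((Nat.Prime.coprime_iff_not_dvd Nat.prime_two).2 hm).symm
  obtain ⟨x, y, hxy⟩ := Nat.isCoprime_iff_coprime.2 hco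
  have e : g = (g ^ m) ^ x * (g ^ 2 ^ a) ^ y := by
    rw [← zpow_natCast, ← zpow_natCast, ← zpow_mul, ← zpow_mul, ← zpow_add, mul_comm (m : ℤ), mul_comm _ y, hxy,
      zpow_one]
  rw [e]
  exact mul_mem (zpow_mem h1 x) (zpow_mem h2 y)

section setting

variable (hP : IsParS (S : Subgroup G) P) (hH : IsLong (S : Subgroup G) H)
  (hoff : Off (zl (S : Subgroup G) P) (zl (S : Subgroup G) H))
  (M : NatK F (S : Subgroup G) P (zl (S : Subgroup G) P) (cv (S : Subgroup G) P) 1)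

/-- the coordinates -/
abbrev co {S P V D : Subgroup G} (M : NatK F S P V D 1) : G → Fin 2 → F := fun g => M.e g 0

/-- the product of the lines on `Z` in `H` -/
def WH (S H : Subgroup G) : Subgroup G := NoFF.Lines.W (zc S) (CZ S) {P | IsParS S P ∧ P ≤ H}

/-- `P = ⟨U^P⟩ S` -/
def LL (P U : Subgroup G) : Subgroup G := ⨆ g : P, MulAut.conj (g : G) • U

include hc hP hH hoff

include M

end setting

end frame

end Cfsg.Agent.Omega.NOThreeL.RFour
end
end
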